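import Cfsg.Agent.Lib.OrderDegrees.SmallChar.Data
import Mathlib.GroupTheory.Sylow
import Mathlib.GroupTheory.Subgroup.Simple

/-!
# The prime five
-/

set_option autoImplicit false
set_option linter.unusedSectionVars false
set_option linter.style.haveILetI false

namespace CfsgLib.OrderDegrees.SmallChar

open Cfsg CfsgLib.CharTheory Finset
open scoped ComplexConjugate Classical

variable {Q : Type*} [Group Q] [Fintype Q]

/-- The order away from `p` divides the product of the value gaps. -/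
theorem card_dvd_bound {p n : ℕ} {u : Q} (h : Core p n u) {χ : Q → ℂ} (hχ : IsCharacter Q χ) {m : ℤ}
    (h1 : χ 1 = m) (L : Finset ℤ)
    (hL : ∀ g : Q, ¬ p ∣ orderOf g → g ≠ 1 → ∃ l ∈ L, χ g = (l : ℂ))
    {N : ℕ} (hN : Nat.card Q = p * N) : (N : ℤ) ∣ ∏ l ∈ L, (m - l) := by
  rw [Int.natCast_dvd, Nat.dvd_iff_prime_pow_dvd_dvd]
  intro q k hq hk
  rcases Nat.eq_zero_or_pos k with rfl | hk0
  · simp
  have hqp : q ≠ p := fun e => h.sq (by
    rw [hN, sq, ← e]; exact Nat.mul_dvd_mul_left _ ((dvd_pow_self q hk0.ne').trans hk))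
  haveI : Fact q.Prime := ⟨hq⟩
  obtain ⟨S, hS⟩ := Sylow.exists_subgroup_card_pow_prime q (n := k) (hk.trans (hN ▸ dvd_mul_left _ _))
  have := card_dvd_prod S hχ h1 L fun g hg hg1 => hL g (fun hd => hqp ?_) hg1
  · rw [hS, Int.natCast_dvd] at this
    exact this
  · have hd' : p ∣ q ^ k := by
      rw [← hS]
      exact hd.trans (Subgroup.orderOf_dvd_natCard S hg)
    exact ((Nat.prime_dvd_prime_iff_eq (prime h) hq).1 ((prime h).dvd_of_dvd_pow hd')).symm

/-- An involution central in a Sylow `2`-subgroup. -/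
theorem exists_central_involution (he : 2 ∣ Nat.card Q) :
    ∃ t : Q, orderOf t = 2 ∧ 2 ^ (Nat.card Q).factorization 2 ∣
      Nat.card (Subgroup.centralizer ({t} : Set Q)) := by
  haveI : Fact (Nat.Prime 2) := ⟨Nat.prime_two⟩
  let P : Sylow 2 Q := default
  haveI : Nontrivial (P : Subgroup Q) :=
    (Subgroup.nontrivial_iff_ne_bot _).2 (P.ne_bot_of_dvd_card he)
  haveI := P.2.center_nontrivial
  have hd : 2 ∣ Nat.card (Subgroup.center (P : Subgroup Q)) := by
    obtain ⟨k, hk⟩ := IsPGroup.iff_card.1 (P.2.to_subgroup (Subgroup.center (P : Subgroup Q)))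
    have h1 := Finite.one_lt_card (α := Subgroup.center (P : Subgroup Q))
    rw [hk] at h1 ⊢
    exact dvd_pow_self 2 fun e => by rw [e] at h1; simp at h1
  obtain ⟨z, hz⟩ := exists_prime_orderOf_dvd_card' 2 hd
  refine ⟨((z : (P : Subgroup Q)) : Q), by rw [Subgroup.orderOf_coe, Subgroup.orderOf_coe, hz], ?_⟩
  rw [← Sylow.card_eq_multiplicity P]
  refine Subgroup.card_dvd_of_le fun x hx => Subgroup.mem_centralizer_singleton_iff.2 ?_
  exact congrArg Subtype.val (Subgroup.mem_center_iff.1 z.2 ⟨x, hx⟩)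

theorem odd_part {e k m O l : ℕ} (h : 2 ^ e * m = 2 ^ k * (O * l ^ 2)) (hm : ¬ 2 ∣ m) (hO : ¬ 2 ∣ O)
    (hl : ¬ 2 ∣ l) : 2 ^ e = 2 ^ k ∧ m = O * l ^ 2 := by
  have h1 : Nat.Coprime 2 m := (Nat.prime_two.coprime_iff_not_dvd).2 hm
  have h2 : Nat.Coprime 2 (O * l ^ 2) := (Nat.prime_two.coprime_iff_not_dvd).2 fun hd =>
    (Nat.prime_two.dvd_mul.1 hd).elim hO fun hd' => hl (Nat.prime_two.dvd_of_dvd_pow hd')
  have e1 : 2 ^ e ∣ 2 ^ k := (Nat.Coprime.pow_left e h2).dvd_of_dvd_mul_right (Dvd.intro m h)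
  have e2 : 2 ^ k ∣ 2 ^ e := (Nat.Coprime.pow_left k h1).dvd_of_dvd_mul_right (Dvd.intro _ h.symm)
  have he := Nat.dvd_antisymm e1 e2
  refine ⟨he, ?_⟩
  rw [he] at h
  exact Nat.eq_of_mul_eq_mul_left (by positivity) h

variable {u : Q}

theorem exists_inverting (h : Core 5 2 u) : ∃ c : Q, orderOf c = 2 ∧ c * u * c⁻¹ = u⁻¹ := by
  obtain ⟨c, hc⟩ := isConj_iff.1 h.sqr
  have h5 : u ^ 5 = 1 := by rw [← h.ord, pow_orderOf_eq_one]
  have hinv : c * u * c⁻¹ = u⁻¹ := by
    rw [hc]; exact eq_inv_of_mul_eq_one_left (by rw [← pow_succ, h5])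
  refine ⟨c, ?_, hinv⟩
  have hcomm : c * c * u = u * (c * c) := by
    have h1 : c * u⁻¹ * c⁻¹ = u := by
      rw [show c * u⁻¹ * c⁻¹ = (c * u * c⁻¹)⁻¹ by group, hinv, inv_inv]
    calc c * c * u = c * (c * u * c⁻¹) * c := by group
      _ = c * u⁻¹ * c⁻¹ * (c * c) := by rw [hinv]; group
      _ = u * (c * c) := by rw [h1]
  obtain ⟨j, hj⟩ := Subgroup.mem_zpowers_iff.1 (h.cent _ hcomm)
  have hfix : u ^ (-j) = u ^ j := by
    calc u ^ (-j) = (c * u * c⁻¹) ^ j := by rw [hinv, inv_zpow']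
      _ = c * u ^ j * c⁻¹ := by rw [conj_zpow]
      _ = u ^ j := by rw [hj]; group
  have h2 : u ^ (2 * j) = 1 := by
    calc u ^ (2 * j) = u ^ j * u ^ j := by rw [← zpow_add]; ring_nf
      _ = u ^ j * u ^ (-j) := by rw [hfix]
      _ = 1 := by rw [← zpow_add, add_neg_cancel, zpow_zero]
  have hd := orderOf_dvd_iff_zpow_eq_one.2 h2
  rw [h.ord] at hd
  have hu5 : u ^ j = 1 := orderOf_dvd_iff_zpow_eq_one.1 (by rw [h.ord]; omega)
  rw [hj] at hu5
  refine orderOf_eq_prime (by rw [sq, hu5]) fun e => ?_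
  rw [e, one_mul, inv_one, mul_one] at hinv
  have h2u : u ^ 2 = 1 := by rw [sq]; exact mul_eq_one_iff_eq_inv.2 hinv
  have := orderOf_dvd_of_pow_eq_one h2u
  rw [h.ord] at this
  omega

/-- The pairs of involutions with product a given element of order five. -/
theorem pairs_involution (h : Core 5 2 u) {c : Q} (hc : orderOf c = 2) (hinv : c * u * c⁻¹ = u⁻¹)
    {t : Q} (ht : t ^ 2 = 1) {v : Q} (hv : v = u ∨ v = u ^ 2) :
    pairs t t v = if IsConj t c then 5 else 0 := by
  have h5 : u ^ 5 = 1 := by rw [← h.ord, pow_orderOf_eq_one]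
  have hc2 : c * c = 1 := by rw [← sq, ← hc, pow_orderOf_eq_one]
  have hci : c⁻¹ = c := inv_eq_of_mul_eq_one_left hc2
  have hconjc : ∀ z ∈ Subgroup.zpowers u, IsConj c (c * z) := by
    intro z hz
    obtain ⟨j, rfl⟩ := Subgroup.mem_zpowers_iff.1 hz
    refine isConj_iff.2 ⟨u ^ (2 * j), ?_⟩
    have e1 : c * u ^ (2 * j) * c⁻¹ = u ^ (-(2 * j)) := by
      rw [← conj_zpow, hinv, inv_zpow']
    have e2 : u ^ (2 * j) * c = c * u ^ (-(2 * j)) := by
      rw [← e1]
      simp only [hci, ← mul_assoc, hc2, one_mul]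
    rw [e2, mul_assoc, ← zpow_neg, ← zpow_add]
    congr 1
    rw [zpow_eq_zpow_iff_modEq, h.ord, Int.modEq_iff_dvd]
    omega
  have hmem : ∀ y : Q, IsConj t y → IsConj t (y * v) → c * y ∈ Subgroup.zpowers u := by
    intro y h1 h2
    have hsq : ∀ z, IsConj t z → z * z = 1 := fun z hz => by
      obtain ⟨a, rfl⟩ := isConj_iff.1 hz
      rw [show a * t * a⁻¹ * (a * t * a⁻¹) = a * t ^ 2 * a⁻¹ by rw [sq]; group, ht]; group
    have hy := hsq y h1
    have hyv := hsq _ h2
    have hyi : y⁻¹ = y := inv_eq_of_mul_eq_one_left hy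
    have hv' : y * v * y⁻¹ = v⁻¹ := by
      rw [hyi]; exact eq_inv_of_mul_eq_one_left (by rw [mul_assoc]; exact hyv)
    have hyu : y * u * y⁻¹ = u⁻¹ := by
      rcases hv with rfl | rfl
      · exact hv'
      · have h3 : u = (u ^ 2) ^ 3 := by rw [← pow_mul, pow_succ, h5, one_mul]
        conv_lhs => rw [h3]
        conv_rhs => rw [h3]
        rw [← conj_pow, hv', inv_pow]
    refine h.cent _ ?_
    calc c * y * u = c * (y * u * y⁻¹) * y := by group
      _ = c * u⁻¹ * y := by rw [hyu]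
      _ = (c * u * c⁻¹)⁻¹ * c * y := by group
      _ = u * (c * y) := by rw [hinv, inv_inv, mul_assoc]
  have hvz : v ∈ Subgroup.zpowers u := by
    rcases hv with rfl | rfl
    · exact Subgroup.mem_zpowers _
    · exact pow_mem (Subgroup.mem_zpowers _) _
  unfold pairs
  by_cases htc : IsConj t c
  · rw [if_pos htc]
    have heq : (univ.filter fun y => IsConj t y ∧ IsConj t (y * v)) =
        (univ.filter fun z => z ∈ Subgroup.zpowers u).image (c * ·) := by
      ext y
      simp only [mem_filter, mem_univ, true_and, mem_image]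
      refine ⟨fun ⟨h1, h2⟩ => ⟨c * y, hmem y h1 h2, by rw [← mul_assoc, hc2, one_mul]⟩, ?_⟩
      rintro ⟨z, hz, rfl⟩
      exact ⟨htc.trans (hconjc z hz), by rw [mul_assoc]; exact htc.trans (hconjc _ (mul_mem hz hvz))⟩
    rw [heq, card_image_of_injective _ (mul_right_injective c),
      ← Fintype.card_subtype (fun z => z ∈ Subgroup.zpowers u), ← Nat.card_eq_fintype_card]
    exact (Nat.card_zpowers u).trans h.ord
  · rw [if_neg htc, card_eq_zero, filter_eq_empty_iff]
    rintro y - ⟨h1, h2⟩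
    apply htc
    have := hconjc _ (hmem y h1 h2)
    rw [← mul_assoc, hc2, one_mul] at this
    exact h1.trans this.symm

variable {A : Q → ℂ}

theorem exists_shape [Fintype (IrrCharacter Q)] (hD : Data 5 2 u A) :
    ∃ (X X' f C : IrrCharacter Q) (x : ℕ) (ε : IrrCharacter Q → ℤ),
      Special 5 2 u X X' 1 {f} ε ∧ ε f = -1 ∧ (C = X ∨ C = X') ∧ (X : Q → ℂ) 1 = x ∧
        (f : Q → ℂ) 1 = ((x + 1 : ℕ) : ℂ) ∧ IsCharacter Q (A - (C : Q → ℂ)) ∧
        (x = 3 ∨ (x = 8 ∧ A = (C : Q → ℂ))) := by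
  obtain ⟨X, X', δ, F, ε, hS⟩ := exists_special hD.core
  obtain ⟨f, rfl⟩ := card_eq_one.1 (show F.card = 1 by rw [hS.card]; rfl)
  choose D hDeg hDpos using exists_degree (Q := Q)
  obtain ⟨m, hm, hsum⟩ := exists_mult_special hS hD.char
  have hrel := (hS.rel 1 (regular_one hD.core)).2
  rw [sum_singleton, hDeg, hDeg] at hrel
  have hrel' : 1 + δ * (D X : ℤ) + ε f * (D f : ℤ) = 0 := by exact_mod_cast hrel
  have hz : m (trivIrr Q) = 0 := by
    by_contra h0
    exact hD.orth (exists_sub_isCharacter hm h0).1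
  rw [hD.sumA, hz, sum_singleton] at hsum
  have hsum' : (1 : ℤ) = δ * (m X + m X' : ℕ) + 2 * (ε f * m f) := by
    simp only [idx] at hsum
    norm_num at hsum
    exact_mod_cast hsum
  have hdeg : D X * (m X + m X') + D f * m f ≤ 8 := by
    have h8 : ∑ χ, m χ * D χ = 8 := by
      have := congrFun hm 1
      rw [hD.deg, Finset.sum_apply] at this
      simp only [Pi.smul_apply, smul_eq_mul, hDeg, idx] at this
      norm_num at this
      exact_mod_cast this.symm
    obtain ⟨-, -, -, hXF, hX'F⟩ := hS.disj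
    have hle := sum_le_sum_of_subset (f := fun χ => m χ * D χ) (subset_univ ({X, X', f} : Finset _))
    rw [h8, sum_insert (by simp at hXF ⊢; exact ⟨hS.ne, hXF⟩), sum_pair (by simpa using hX'F)] at hle
    have hXX : D X' = D X := by
      have := (hS.rel 1 (regular_one hD.core)).1
      rw [hDeg, hDeg] at this
      exact_mod_cast this
    rw [hXX] at hle
    linarith
  have hf1 : D f ≠ 1 := fun e => degree_ne_one hD.core hS (mem_singleton_self f) (by rw [hDeg, e, Nat.cast_one])
  obtain ⟨hε, -, -⟩ := hS.memF f (mem_singleton_self f)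
  have hdX := dvd_X hD.core hS (hDeg X)
  norm_num at hdX
  have hs : 1 ≤ m X + m X' := by
    by_contra h0
    rw [show m X + m X' = 0 by omega] at hsum'
    omega
  have hX8 : D X ≤ 8 := le_trans (Nat.le_mul_of_pos_right _ hs) (le_trans (Nat.le_add_right _ _) hdeg)
  have hδ := hS.sgn
  have hmain : δ = 1 ∧ ε f = -1 ∧ D f = D X + 1 ∧ (D X = 3 ∨ D X = 8) := by
    have hXp := hDpos X
    rcases hδ with rfl | rfl
    · rcases hε with e | e <;> rw [e] at hrel' <;> omega
    · rcases hε with e | e <;> rw [e] at hrel' hsum'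
      · have h7 : D X = 2 ∨ D X = 7 := by omega
        rcases h7 with h7 | h7
        · omega
        · exfalso
          rw [h7, show D f = 6 by omega] at hdeg
          omega
      · omega
  obtain ⟨rfl, hεf, hfX, hx⟩ := hmain
  have hC : ∃ C : IrrCharacter Q, (C = X ∨ C = X') ∧ m C ≠ 0 := by
    rcases Nat.eq_zero_or_pos (m X) with h0 | h0
    · exact ⟨X', Or.inr rfl, by omega⟩
    · exact ⟨X, Or.inl rfl, h0.ne'⟩
  obtain ⟨C, hC, hmC⟩ := hC
  obtain ⟨hsub, r, hr, hr0⟩ := exists_sub_isCharacter hm hmC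
  refine ⟨X, X', f, C, D X, ε, hS, hεf, hC, hDeg X, by rw [hDeg, hfX], hsub, hx.imp_right fun h8 => ⟨h8, hr0 ?_⟩⟩
  have hC1 : (C : Q → ℂ) 1 = (D X : ℂ) := by
    rcases hC with rfl | rfl
    · exact hDeg _
    · rw [(hS.rel 1 (regular_one hD.core)).1, hDeg]
  rw [hD.deg, hC1, h8] at hr
  simp only [idx] at hr
  norm_num at hr
  exact hr

/-- The group is simple of order `60` or `360`. -/
theorem five (hD : Data 5 2 u A) : IsSimpleGroup Q ∧ (Nat.card Q = 60 ∨ Nat.card Q = 360) := by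
  haveI := Fintype.ofFinite (IrrCharacter Q)
  have h := hD.core
  obtain ⟨X, X', f, C, x, ε, hS, hεf, hC, hX1, hf1, hsub, hx⟩ := exists_shape hD
  have hXC : ∀ g, ¬ 5 ∣ orderOf g → (C : Q → ℂ) g = (X : Q → ℂ) g := fun g hg => by
    rcases hC with rfl | rfl
    · rfl
    · exact (hS.rel g hg).1
  have hintf : ∀ g, ∃ z : ℤ, (f : Q → ℂ) g = z := fun g =>
    exists_int_memF h hS (mem_singleton_self f) (fun f' hf' _ _ => mem_singleton.1 hf') g
  have hrel : ∀ g, ¬ 5 ∣ orderOf g → (f : Q → ℂ) g = 1 + (X : Q → ℂ) g := fun g hg => by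
    have := (hS.rel g hg).2
    rw [sum_singleton, hεf] at this
    push_cast at this
    linear_combination -this
  have hint : ∀ g, ¬ 5 ∣ orderOf g → ∃ a : ℤ, (X : Q → ℂ) g = a := fun g hg => by
    obtain ⟨z, hz⟩ := hintf g
    exact ⟨z - 1, by rw [hrel g hg] at hz; push_cast; linear_combination hz⟩
  have hXc := IsIrrCharacter.isCharacter X.2
  -- the values
  have hC1 : (C : Q → ℂ) 1 = (x : ℂ) := by rw [hXC 1 (regular_one h), hX1]
  have hfaith : ∀ g, ¬ 5 ∣ orderOf g → (X : Q → ℂ) g = (x : ℂ) → g = 1 := fun g hg hgx => by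
    rcases hx with rfl | ⟨rfl, hA⟩
    · exact eq_one_of_apply_eq hD (IsIrrCharacter.isCharacter C.2) hsub hC1 (by decide)
        (by rw [hXC g hg, hgx, hC1])
    · exact hD.faith g (by rw [hA, hXC g hg, hgx, hC1])
  let lo : ℤ := if x = 3 then -3 else -1
  have hrange : ∀ g, ¬ 5 ∣ orderOf g → g ≠ 1 → ∀ a : ℤ, (X : Q → ℂ) g = a → lo ≤ a ∧ a < x := by
    intro g hg hg1 a ha
    obtain ⟨h1, h2⟩ := abs_le_degree hXc hX1 ha
    have hne : a ≠ x := fun e => hg1 (hfaith g hg (by rw [ha, e, Int.cast_natCast]))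
    rcases hx with rfl | ⟨rfl, hA⟩
    · simp only [lo, if_pos] at *; omega
    · have := hD.lower g a (by rw [hA, hXC g hg, ha])
      simp only [lo]; norm_num; omega
  -- the involutions
  obtain ⟨c, hc, hinv⟩ := exists_inverting h
  have he : 2 ∣ Nat.card Q := hc ▸ orderOf_dvd_natCard c
  obtain ⟨t, ht, htc⟩ := exists_central_involution he
  have hreg2 : ∀ s : Q, orderOf s = 2 → ¬ 5 ∣ orderOf s := fun s hs => by rw [hs]; norm_num
  set CT : Q → ℕ := fun s => Nat.card (Subgroup.centralizer ({s} : Set Q)) with hCT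
  have hS2 : ∀ s : Q, orderOf s = 2 → ∀ a : ℤ, (X : Q → ℂ) s = a →
      ((pairs s s u + pairs s s (u ^ 2) : ℕ) : ℤ) * CT s ^ 2 * (x * (x + 1)) =
        2 * Nat.card Q * ((x : ℤ) - a) ^ 2 := by
    intro s hs a ha
    have := pairs_special hS (hreg2 s hs) (hreg2 s hs)
    rw [sum_singleton, hrel s (hreg2 s hs), ha, hεf, hX1, hf1] at this
    simp only [map_add, map_one, map_intCast] at this
    have hx0 : (x : ℂ) ≠ 0 := by rcases hx with rfl | ⟨rfl, -⟩ <;> norm_num
    have hx1 : (x : ℂ) + 1 ≠ 0 := by rcases hx with rfl | ⟨rfl, -⟩ <;> norm_num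
    apply Int.cast_injective (α := ℂ)
    push_cast at this ⊢
    simp only [hCT]
    rw [sq (Nat.card _ : ℂ), this]
    field_simp
    ring
  obtain ⟨a, ha⟩ := hint t (hreg2 t ht)
  have ht2 : t ^ 2 = 1 := by rw [← ht, pow_orderOf_eq_one]
  have ht1 : t ≠ 1 := fun e => by rw [e, orderOf_one] at ht; omega
  have hconj : ∀ s : Q, orderOf s = 2 → IsConj s c := fun s hs => by
    by_contra hns
    obtain ⟨b, hb⟩ := hint s (hreg2 s hs)
    have := hS2 s hs b hb
    rw [pairs_involution h hc hinv (by rw [← hs, pow_orderOf_eq_one]) (Or.inl rfl),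
      pairs_involution h hc hinv (by rw [← hs, pow_orderOf_eq_one]) (Or.inr rfl), if_neg hns] at this
    have h1 := (hrange s (hreg2 s hs) (fun e => by rw [e, orderOf_one] at hs; omega) b hb).2
    have h2 : (0 : ℤ) < 2 * Nat.card Q * ((x : ℤ) - b) ^ 2 :=
      mul_pos (mul_pos two_pos (by exact_mod_cast Nat.card_pos)) (pow_pos (by omega) 2)
    rw [← this] at h2
    simp at h2
  have hmain := hS2 t ht a ha
  rw [pairs_involution h hc hinv ht2 (Or.inl rfl), pairs_involution h hc hinv ht2 (Or.inr rfl),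
    if_pos (hconj t ht)] at hmain
  obtain ⟨halo, hahi⟩ := hrange t (hreg2 t ht) ht1 a ha
  have hdiv := dvd_sub_involution h hXc ht2 hX1 ha
  -- decomposition of the orders
  set k := (Nat.card Q).factorization 2 with hk
  obtain ⟨m, hm⟩ := Nat.ordProj_dvd (Nat.card Q) 2
  rw [← hk] at hm
  have hm2 : ¬ 2 ∣ m := fun hd => Nat.not_dvd_ordCompl Nat.prime_two Nat.card_pos.ne' (by
    rw [← hk, hm, Nat.mul_div_cancel_left _ (by positivity)]; exact hd)
  obtain ⟨l, hl⟩ := htc
  have hl2 : ¬ 2 ∣ l := fun hd => hm2 (hd.trans (Nat.dvd_of_mul_dvd_mul_left (k := 2 ^ k) (by positivity)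
    (by rw [← hl, ← hm]; exact Subgroup.card_subgroup_dvd_card _)))
  have h4 := four_dvd_card h he
  have hcard : (x = 3 ∧ Nat.card Q = 5 * (12 * l ^ 2)) ∨ (x = 8 ∧ Nat.card Q = 5 * (72 * l ^ 2)) := by
    simp only [hCT] at hmain
    rw [hl, hm] at hmain
    rw [hm] at h4 ⊢
    rcases hx with rfl | ⟨rfl, -⟩
    · obtain rfl : a = -1 := by simp only [lo] at halo; norm_num at halo hahi; omega
      have h' : 2 ^ 2 * m = 2 ^ k * (15 * l ^ 2) := by
        have h0 : (0 : ℤ) < 2 ^ k := by positivity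
        have : (2 : ℤ) ^ 2 * m = 2 ^ k * (15 * l ^ 2) := by
          apply mul_left_cancel₀ (a := (8 : ℤ) * 2 ^ k) (by positivity)
          push_cast at hmain
          linear_combination -hmain
        exact_mod_cast this
      obtain ⟨e1, e2⟩ := odd_part h' hm2 (by norm_num) hl2
      left; exact ⟨rfl, by rw [← e1, e2]; ring⟩
    · have ha04 : a = 0 ∨ a = 4 := by simp only [lo] at halo; norm_num at halo hahi; omega
      rcases ha04 with rfl | rfl
      · have h' : 2 ^ 3 * m = 2 ^ k * (45 * l ^ 2) := by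
          have : (2 : ℤ) ^ 3 * m = 2 ^ k * (45 * l ^ 2) := by
            apply mul_left_cancel₀ (a := (16 : ℤ) * 2 ^ k) (by positivity)
            push_cast at hmain
            linear_combination -hmain
          exact_mod_cast this
        obtain ⟨e1, e2⟩ := odd_part h' hm2 (by norm_num) hl2
        right; exact ⟨rfl, by rw [← e1, e2]; ring⟩
      · exfalso
        have h' : 2 ^ 1 * m = 2 ^ k * (45 * l ^ 2) := by
          have : (2 : ℤ) ^ 1 * m = 2 ^ k * (45 * l ^ 2) := by
            apply mul_left_cancel₀ (a := (16 : ℤ) * 2 ^ k) (by positivity)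
            push_cast at hmain
            linear_combination -hmain
          exact_mod_cast this
        obtain ⟨e1, -⟩ := odd_part h' hm2 (by norm_num) hl2
        rw [← e1] at h4
        omega
  -- the bound
  have hord : Nat.card Q = 60 ∨ Nat.card Q = 360 := by
    rcases hcard with ⟨rfl, hq⟩ | ⟨rfl, hq⟩
    · have := card_dvd_bound h hXc (m := 3) (by rw [hX1]; norm_num) (Finset.Icc (-3) 2) (fun g hg hg1 => by
        obtain ⟨b, hb⟩ := hint g hg
        have := hrange g hg hg1 b hb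
        simp only [lo] at this
        norm_num at this
        exact ⟨b, mem_Icc.2 ⟨this.1, by omega⟩, hb⟩) hq
      rw [show ∏ l ∈ Finset.Icc (-3 : ℤ) 2, (3 - l) = 720 by decide] at this
      have h60 : l ^ 2 ∣ 60 := by
        rw [show (720 : ℤ) = ((12 * 60 : ℕ) : ℤ) by norm_num] at this
        exact Nat.dvd_of_mul_dvd_mul_left (by norm_num) (Int.natCast_dvd_natCast.1 this)
      have hl8 : l < 8 := by nlinarith [Nat.le_of_dvd (by norm_num) h60]
      left
      interval_cases l <;> omega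
    · have := card_dvd_bound h hXc (m := 8) (by rw [hX1]; norm_num) (Finset.Icc (-1) 7) (fun g hg hg1 => by
        obtain ⟨b, hb⟩ := hint g hg
        have := hrange g hg hg1 b hb
        simp only [lo] at this
        norm_num at this
        exact ⟨b, mem_Icc.2 ⟨this.1, by omega⟩, hb⟩) hq
      rw [show ∏ l ∈ Finset.Icc (-1 : ℤ) 7, (8 - l) = 362880 by decide] at this
      have h5040 : l ^ 2 ∣ 5040 := by
        rw [show (362880 : ℤ) = ((72 * 5040 : ℕ) : ℤ) by norm_num] at this
        exact Nat.dvd_of_mul_dvd_mul_left (by norm_num) (Int.natCast_dvd_natCast.1 this)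
      have hl72 : l < 72 := by nlinarith [Nat.le_of_dvd (by norm_num) h5040]
      have hl13 : l = 1 ∨ l = 3 := by
        interval_cases l <;> omega
      rcases hl13 with rfl | rfl
      · right; rw [hq]; norm_num
      · exfalso
        -- degrees modulo five
        choose D hDeg hDpos using exists_degree (Q := Q)
        have h0 := sum_degree_sq (G := Q)
        obtain ⟨d1, d2, d3, d4, d5⟩ := hS.disj
        have hz : ∀ χ : IrrCharacter Q, χ ∉ ({trivIrr Q, X, X', f} : Finset _) → (5 : ℤ) ∣ D χ := by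
          intro χ hχ
          simp only [mem_insert, mem_singleton, not_or] at hχ
          obtain ⟨e1, e2⟩ := hS.other χ hχ.1 hχ.2.1 hχ.2.2.1 (by simpa using hχ.2.2.2)
          have := dvd_degree h (IsIrrCharacter.isCharacter χ.2) (hDeg χ) (a := 0) (by rw [e1, e2]; norm_num)
          simpa using this
        have hsq : (∑ χ, (D χ : ℤ) ^ 2) = 3240 := by
          apply Int.cast_injective (α := ℂ)
          push_cast
          rw [← sum_congr rfl (fun χ _ => congrArg (· ^ 2) (hDeg χ)), h0, hq]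
          norm_num
        rw [← sum_compl_add_sum ({trivIrr Q, X, X', f} : Finset _)] at hsq
        simp only [mem_singleton] at d3 d4 d5
        rw [sum_insert (by simp [d1, d2, d3]), sum_insert (by simp [hS.ne, d4]), sum_pair d5] at hsq
        have e0 : D (trivIrr Q) = 1 := by
          have := hDeg (trivIrr Q); rw [trivIrr_apply] at this; exact_mod_cast this.symm
        have e1 : D X = 8 := by have := hDeg X; rw [hX1] at this; exact_mod_cast this.symm
        have e2 : D X' = 8 := by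
          have := hDeg X'; rw [(hS.rel 1 (regular_one h)).1, hX1] at this; exact_mod_cast this.symm
        have e3 : D f = 9 := by have := hDeg f; rw [hf1] at this; exact_mod_cast this.symm
        rw [e0, e1, e2, e3] at hsq
        have h25 : (25 : ℤ) ∣ ∑ χ ∈ ({trivIrr Q, X, X', f} : Finset _)ᶜ, (D χ : ℤ) ^ 2 :=
          dvd_sum fun χ hχ => (show (25 : ℤ) = 5 ^ 2 by norm_num) ▸ pow_dvd_pow_of_dvd (hz χ (mem_compl.1 hχ)) 2
        generalize ∑ χ ∈ ({trivIrr Q, X, X', f} : Finset _)ᶜ, (D χ : ℤ) ^ 2 = R at h25 hsq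
        norm_num at hsq
        omega
  refine ⟨?_, hord⟩
  haveI : Nontrivial Q := ⟨⟨u, 1, u_ne_one h⟩⟩
  refine ⟨fun M hM => ?_⟩
  by_cases huM : u ∈ M
  · exact Or.inr (h.gen M hM huM)
  left
  have h1 := normal_card h hM huM
  have hodd : ¬ 2 ∣ Nat.card M := fun hd => by
    obtain ⟨s, hs⟩ := exists_prime_orderOf_dvd_card' 2 hd
    obtain ⟨w, hw⟩ := isConj_iff.1 (hconj (s : Q) (by rw [Subgroup.orderOf_coe, hs]))
    have hcM : c ∈ M := hw ▸ hM.conj_mem _ s.2 w
    have h2 : u * u ∈ M := by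
      have := mul_mem (hM.conj_mem c hcM u) (inv_mem hcM)
      rwa [show u * c * u⁻¹ * c⁻¹ = u * (c * u * c⁻¹)⁻¹ by group, hinv, inv_inv] at this
    apply huM
    have h5 : u ^ 5 = 1 := by rw [← h.ord, pow_orderOf_eq_one]
    have : u = (u * u) ^ 3 := by rw [← sq, ← pow_mul, pow_succ, h5, one_mul]
    rw [this]; exact pow_mem h2 _
  have hdvd := Subgroup.card_subgroup_dvd_card M
  rw [← Subgroup.card_eq_one]
  rcases hord with hq | hq <;> rw [hq] at hdvd
  · have : Nat.card M ≤ 60 := Nat.le_of_dvd (by norm_num) hdvd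
    generalize Nat.card M = r at *
    interval_cases r <;> omega
  · have : Nat.card M ≤ 360 := Nat.le_of_dvd (by norm_num) hdvd
    generalize Nat.card M = r at *
    interval_cases r <;> omega

end CfsgLib.OrderDegrees.SmallChar
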