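import Cfsg.Agent.Lib.OrderDegrees.LinearExact
import Cfsg.Agent.Lib.OrderDegrees.NineteenTools
import Cfsg.Agent.Lib.OrderDegrees.NineteenLocal

/-!
# The centraliser of an element of order `p` in degree `(p + 1) / 2`

If the eigenvalues of `u` are distinct and include `1`, the rows of the character show that the regular
part of the centraliser acts by scalars.
-/

set_option autoImplicit false
set_option linter.unusedSectionVars false
set_option linter.style.haveILetI false

namespace CfsgLib.OrderDegrees.SmallChar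

open Cfsg CfsgLib.CharTheory CfsgLib.Blocks CfsgLib.DefectOne Finset
open CfsgLib.SmallGroups.QuasiSimple (linIrr linIrr_apply)
open scoped ComplexConjugate Classical

theorem sum_units_val {p : ℕ} [Fact p.Prime] (F : ℕ → ℂ) :
    ∑ k : (ZMod p)ˣ, F (k : ZMod p).val = (∑ i ∈ range p, F i) - F 0 := by
  have hp : p.Prime := Fact.out
  rw [← add_sum_erase _ _ (mem_range.2 hp.pos), add_sub_cancel_left]
  refine sum_bij (fun k _ => (k : ZMod p).val) (fun k _ => ?_) (fun a _ b _ hab => ?_) (fun i hi => ?_)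
    fun k _ => rfl
  · exact mem_erase.2 ⟨fun h0 => k.ne_zero ((ZMod.val_eq_zero _).1 h0), mem_range.2 (ZMod.val_lt _)⟩
  · exact Units.ext (ZMod.val_injective p hab)
  · obtain ⟨h0, hi⟩ := mem_erase.1 hi
    rw [mem_range] at hi
    refine ⟨Units.mk0 (i : ZMod p) fun h' => h0 ?_, mem_univ _, ?_⟩
    · have := congrArg ZMod.val h'
      rwa [ZMod.val_natCast, Nat.mod_eq_of_lt hi, ZMod.val_zero] at this
    · show (i : ZMod p).val = i
      rw [ZMod.val_natCast, Nat.mod_eq_of_lt hi]

variable {H : Type*} [Group H] [Fintype H] {p : ℕ} [hp : Fact p.Prime]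

/-- The regular part of the centraliser of `u` is central. -/
theorem regular_le_center (hG : ExactPrime H p) (S : Sect H p) {m : ℕ}
    (ρ : Representation ℂ H (Fin m → ℂ)) [ρ.IsIrreducible] (hρ : Function.Injective ρ) {ι : Type}
    [Fintype ι] (bs : Module.Basis ι ℂ (Fin m → ℂ)) {μ : ι → ℂ} (hμ : ∀ i, μ i ^ p = 1)
    (hb : ∀ i, ρ S.u (bs i) = μ i • bs i)
    (hline : ∀ ε : ℂ, Module.finrank ℂ (Module.End.eigenspace (ρ S.u) ε) ≤ 1) {i₀ : ι} (hi₀ : μ i₀ = 1)
    (hd : 2 * Fintype.card ι ≤ p + 1) (v : S.V) : (v : H) ∈ Subgroup.center H := by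
  -- the lines
  have hpres : ∀ (w : S.V) (i : ι), ρ (w : H) (bs i) = bs.repr (ρ (w : H) (bs i)) i • bs i := by
    intro w i
    have hmem : bs i ∈ Module.End.eigenspace (ρ S.u) (μ i) := Module.End.mem_eigenspace_iff.2 (hb i)
    have hmem' : ρ (w : H) (bs i) ∈ Module.End.eigenspace (ρ S.u) (μ i) := by
      rw [Module.End.mem_eigenspace_iff, ← Module.End.mul_apply, ← map_mul, ← (S.comm w).eq, map_mul,
        Module.End.mul_apply, hb, map_smul]
    obtain ⟨w₀, -, hw₀⟩ := finrank_eq_one_iff'.1 (le_antisymm (hline (μ i))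
      (Nat.pos_of_ne_zero fun h0 => bs.ne_zero i (by
        have := Submodule.finrank_eq_zero.1 h0
        rw [this] at hmem
        exact (Submodule.mem_bot ℂ).1 hmem)))
    obtain ⟨s, hs⟩ := hw₀ ⟨bs i, hmem⟩
    obtain ⟨t, ht⟩ := hw₀ ⟨_, hmem'⟩
    have hs' : s • (w₀ : Fin m → ℂ) = bs i := congrArg Subtype.val hs
    have ht' : t • (w₀ : Fin m → ℂ) = ρ (w : H) (bs i) := congrArg Subtype.val ht
    have hs0 : s ≠ 0 := fun e => bs.ne_zero i (by rw [← hs', e, zero_smul])
    have hc : ρ (w : H) (bs i) = (t * s⁻¹) • bs i := by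
      rw [← hs', smul_smul, inv_mul_cancel_right₀ hs0, hs', ht']
    have hr : bs.repr (ρ (w : H) (bs i)) i = t * s⁻¹ := by
      rw [hc, map_smul, Module.Basis.repr_self, Finsupp.smul_apply, Finsupp.single_eq_same, smul_eq_mul,
        mul_one]
    rw [hr, hc]
  let α : ι → (S.V →* ℂ) := fun i =>
    { toFun := fun w => bs.repr (ρ (w : H) (bs i)) i
      map_one' := by simp
      map_mul' := fun w w' => by
        show bs.repr (ρ ((w : H) * (w' : H)) (bs i)) i = _
        rw [map_mul, Module.End.mul_apply]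
        conv_lhs => rw [hpres w' i, map_smul, map_smul, Finsupp.smul_apply, smul_eq_mul]
        ring }
  let β : ι → IrrCharacter S.V := fun i => linIrr (α i).toHomUnits
  have hβ : ∀ i (w : S.V), (β i : S.V → ℂ) w = bs.repr (ρ (w : H) (bs i)) i := fun i w => rfl
  let χ : IrrCharacter H := ⟨ρ.character, isIrrCharacter_character ρ⟩
  have hval : ∀ (k : ℕ) (w : S.V), ρ.character (S.u ^ k * (w : H)) = ∑ i, μ i ^ k * (β i : S.V → ℂ) w := by
    intro k w
    rw [Representation.character, LinearMap.trace_eq_matrix_trace ℂ bs, Matrix.trace]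
    refine sum_congr rfl fun i _ => ?_
    have hk : ∀ k : ℕ, ρ (S.u ^ k) (bs i) = μ i ^ k • bs i := fun k => by
      induction k with
      | zero => rw [pow_zero, map_one, pow_zero, one_smul, Module.End.one_apply]
      | succ k ih => rw [pow_succ, map_mul, Module.End.mul_apply, hb, map_smul, ih, smul_smul, pow_succ']
    rw [Matrix.diag_apply, LinearMap.toMatrix_apply, map_mul, Module.End.mul_apply, hpres w i, map_smul,
      hk, map_smul, map_smul, Module.Basis.repr_self, Finsupp.smul_apply, Finsupp.smul_apply,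
      Finsupp.single_eq_same, hβ]
    simp only [smul_eq_mul]
    ring
  -- the sums of the rows
  have hrow : ∀ φ : IrrCharacter S.V, ((galStab hG χ : ℂ) * rowT hG S χ φ) =
      ∑ i ∈ univ.filter (fun i => β i = φ), ((if μ i = 1 then (p : ℂ) else 0) - 1) := by
    intro φ
    rw [← sum_row_units hG S χ φ]
    have hr : ∀ k : ℕ, row S (χ : H → ℂ) φ k = ∑ i ∈ univ.filter (fun i => β i = φ), μ i ^ k := by
      intro k
      rw [row, show (fun w : S.V => (χ : H → ℂ) (S.u ^ k * (w : H))) =
        ∑ i, (μ i ^ k) • (β i : S.V → ℂ) from funext fun w => by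
          rw [show (χ : H → ℂ) (S.u ^ k * (w : H)) = _ from hval k w]
          simp [Finset.sum_apply], classInner_sum_left, sum_filter]
      refine sum_congr rfl fun i _ => ?_
      rw [classInner_smul_left, classInner_irrCharacter, mul_ite, mul_one, mul_zero]
    simp only [hr]
    rw [sum_units_val (fun k => ∑ i ∈ univ.filter (fun i => β i = φ), μ i ^ k), sum_comm,
      ← sum_sub_distrib]
    exact sum_congr rfl fun i _ => by rw [pow_zero, Nineteen.geom_sum_root (hμ i)]
  obtain ⟨M, hM⟩ := exists_isPModular_of_prime hG.prime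
  haveI := isPrime_of_isPModular hM
  have huniq : ∀ i, μ i = 1 → i = i₀ := fun i hi => by
    by_contra hne
    have hmem : ∀ j, μ j = 1 → bs j ∈ Module.End.eigenspace (ρ S.u) (1 : ℂ) := fun j hj =>
      Module.End.mem_eigenspace_iff.2 (by rw [hb, hj])
    obtain ⟨w₀, -, hw₀⟩ := finrank_eq_one_iff'.1 (le_antisymm (hline (1 : ℂ))
      (Nat.pos_of_ne_zero fun h0 => bs.ne_zero i (by
        have h1 := hmem i hi
        rw [Submodule.finrank_eq_zero.1 h0] at h1
        exact (Submodule.mem_bot ℂ).1 h1)))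
    obtain ⟨s, hs⟩ := hw₀ ⟨bs i, hmem i hi⟩
    obtain ⟨t, ht⟩ := hw₀ ⟨bs i₀, hmem i₀ hi₀⟩
    have hs' : s • (w₀ : Fin m → ℂ) = bs i := congrArg Subtype.val hs
    have ht' : t • (w₀ : Fin m → ℂ) = bs i₀ := congrArg Subtype.val ht
    have e : t • bs i = s • bs i₀ := by rw [← hs', ← ht', smul_smul, smul_smul, mul_comm]
    have h2 := congrArg (fun x => bs.repr x i) e
    simp only [map_smul, Module.Basis.repr_self, Finsupp.smul_apply, Finsupp.single_eq_same,
      Finsupp.single_eq_of_ne hne, smul_eq_mul, mul_one, mul_zero] at h2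
    exact bs.ne_zero i₀ (by rw [← ht', h2, zero_smul])
  have hall : ∀ i, β i = β i₀ := by
    intro i
    by_contra hne
    set A := univ.filter fun j => β j = β i₀ with hA
    set B := univ.filter fun j => β j = β i with hB
    obtain ⟨s, hs, hs3⟩ := (rowT_spec hG S hM χ).1 (β i₀)
    obtain ⟨t, ht, ht3⟩ := (rowT_spec hG S hM χ).1 (β i)
    have hA' := hrow (β i₀)
    rw [← hA, sum_sub_distrib, sum_eq_single (s := A) i₀ (fun j _ hj => if_neg fun h1 => hj (huniq j h1)) (fun h1 => absurd (show i₀ ∈ A from mem_filter.2 ⟨mem_univ _, rfl⟩) h1), if_pos hi₀, sum_const, nsmul_one, hs] at hA'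
    have hB' := hrow (β i)
    rw [← hB, sum_sub_distrib, sum_eq_zero (s := B) fun j hj => if_neg fun h1 => hne (by
      rw [← (mem_filter.1 hj).2, huniq j h1]), sum_const, nsmul_one, ht] at hB'
    have hA'' : (galStab hG χ : ℤ) * s = p - (A.card : ℤ) := by exact_mod_cast hA'
    have hB'' : (galStab hG χ : ℤ) * t = 0 - (B.card : ℤ) := by exact_mod_cast hB'
    have hBpos : 0 < B.card := card_pos.2 ⟨i, mem_filter.2 ⟨mem_univ _, rfl⟩⟩
    have hApos : 0 < A.card := card_pos.2 ⟨i₀, mem_filter.2 ⟨mem_univ _, rfl⟩⟩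
    have hsum : A.card + B.card ≤ Fintype.card ι := by
      rw [← card_union_of_disjoint (disjoint_filter.2 fun j _ h1 h2 => hne (h2.symm.trans h1))]
      exact card_le_univ _
    rcases hs3 with rfl | rfl | rfl <;> rcases ht3 with rfl | rfl | rfl <;> omega
  refine Linear.mem_center_of_scalar hρ (c := bs.repr (ρ (v : H) (bs i₀)) i₀) (bs.ext fun i => ?_)
  rw [hpres v i, LinearMap.smul_apply, Module.End.one_apply]
  congr 1
  have := congrFun (congrArg Subtype.val (hall i)) v
  rwa [hβ, hβ] at this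

end CfsgLib.OrderDegrees.SmallChar
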