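import Cfsg.Agent.Lib.OrderDegrees.SmallChar.Data
import Cfsg.Agent.Lib.OrderDegrees.SmallChar.Eigen
import Cfsg.Agent.Lib.SmallGroups.QuasiSimplePSL
import Cfsg.Agent.Lib.CharTheory.Ito
import Cfsg.Agent.Lib.OrderDegrees.LinearSmall

/-!
# The central quotient of a linear group of degree `(p + 1) / 2`, `p = 5, 7`
-/

set_option autoImplicit false
set_option linter.unusedSectionVars false
set_option linter.style.haveILetI false

namespace CfsgLib.OrderDegrees.SmallChar

open Cfsg CfsgLib.CharTheory CfsgLib.Blocks CfsgLib.DefectOne Finset Module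
open CfsgLib.SmallGroups.QuasiSimple (pClosure mem_pClosure exactPrime_pClosure hyp_pClosure)
open scoped ComplexConjugate Classical

/-- A character trivial on a normal subgroup descends to the quotient. -/
theorem exists_descend_char {G : Type*} [Group G] [Finite G] {χ : G → ℂ} (hχ : IsCharacter G χ)
    (N : Subgroup G) [N.Normal] (hN : ∀ g ∈ N, χ g = χ 1) :
    ∃ ψ : G ⧸ N → ℂ, IsCharacter (G ⧸ N) ψ ∧ ∀ g : G, χ g = ψ (g : G ⧸ N) := by
  obtain ⟨n, ρ, hρ⟩ := hχ
  have hker : N ≤ ρ.ker := fun g hg => by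
    rw [MonoidHom.mem_ker, Module.End.one_eq_id, ← character_eq_finrank_iff ρ, ← ρ.char_one, hρ, hN g hg]
  let σ : Representation ℂ (G ⧸ N) (Fin n → ℂ) := QuotientGroup.lift N ρ hker
  exact ⟨σ.character, ⟨n, σ, rfl⟩, fun g => by rw [← hρ]; rfl⟩

theorem zmod_facts : ((2 : ℕ) : ZMod 5) ^ 2 ≠ 1 ∧ ((3 : ℕ) : ZMod 7) ^ 3 ≠ 1 ∧
    ((2 : ℕ) : ZMod 5) ≠ 0 ∧ ((3 : ℕ) : ZMod 7) ≠ 0 ∧ (∀ a : ZMod 5, a ^ 2 = 1 → a ≠ 1 → a = 4) ∧
    ∀ a : ZMod 7, a ^ 3 = 1 → a ≠ 1 → a = 4 ∨ a = 2 := by decide

theorem exists_data {H : Type} [Group H] [Fintype H] {p : ℕ} [hp : Fact p.Prime]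
    [Fintype (H ⧸ Subgroup.center H)] (hG : ExactPrime H p)
    (hnn : ∀ M : Subgroup H, M.Normal → Nat.card M ≠ p) {ζ : H → ℂ} (hζ : IsIrrCharacter H ζ)
    (hfaith : ∀ g : H, ζ g = ζ 1 → g = 1) {n d : ℕ}
    (hcases : (p = 5 ∧ n = 2 ∧ d = 3) ∨ (p = 7 ∧ n = 3 ∧ d = 4)) (hdeg : charDegree ζ = d) :
    ∃ (u : H ⧸ Subgroup.center H) (A : H ⧸ Subgroup.center H → ℂ), Data p n u A := by
  have hpp : p.Prime := hp.out
  have hcases' : (p = 5 ∧ n = 2) ∨ (p = 7 ∧ n = 3) := hcases.imp (fun h => ⟨h.1, h.2.1⟩) fun h => ⟨h.1, h.2.1⟩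
  have hd1 : 2 * d = p + 1 ∧ d + 1 < p ∧ d = idx p + 1 := by
    rcases hcases with ⟨rfl, -, rfl⟩ | ⟨rfl, -, rfl⟩ <;> norm_num [idx]
  obtain ⟨m, ρ, hirr, hρ⟩ := hζ
  haveI := hirr
  have hζ : IsIrrCharacter H ζ := ⟨m, ρ, hirr, hρ⟩
  have hm : m = d := by
    rw [← hdeg, charDegree, ← hρ, ρ.char_one, Module.finrank_fin_fun, Complex.natCast_re, Nat.floor_natCast]
  have hfin : finrank ℂ (Fin m → ℂ) = d := by rw [Module.finrank_fin_fun, hm]
  have hρi : Function.Injective ρ := fun a b hab => by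
    refine eq_of_mul_inv_eq_one (hfaith _ ?_)
    rw [← hρ, Representation.character, Representation.character, map_mul, hab, ← map_mul, mul_inv_cancel]
  -- a subgroup of order `p`
  obtain ⟨u, hu⟩ := exists_prime_orderOf_dvd_card' (G := H) p hG.dvd
  have hfac : (Nat.card H).factorization p = 1 := by
    refine le_antisymm ?_ (hpp.factorization_pos_of_dvd Nat.card_pos.ne' hG.dvd)
    by_contra h'
    push Not at h'
    exact hG.sq ((hpp.pow_dvd_iff_le_factorization Nat.card_pos.ne').2 h')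
  have hnc : ¬ Linear.PComm p ρ := fun h => by
    let P : Sylow p H := Sylow.ofCard (Subgroup.zpowers u) (by rw [Nat.card_zpowers, hu, hfac, pow_one])
    refine hnn (P : Subgroup H)
      (Linear.sylow_normal_of_commute (fun x y hx hy => h.commute hρi hx hy) P) ?_
    show Nat.card (Subgroup.zpowers u) = p
    rw [Nat.card_zpowers, hu]
  -- the center
  have hZp : ∀ z ∈ Subgroup.center H, z ^ p = 1 → z = 1 := fun z hz hzp => by
    by_contra h1
    have ho : orderOf z = p := orderOf_eq_prime hzp h1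
    exact hnn (Subgroup.zpowers z) ⟨fun w hw g => by
      rw [Subgroup.mem_center_iff.1 ((Subgroup.zpowers_le.2 hz) hw) g, mul_inv_cancel_right]; exact hw⟩
      (by rw [Nat.card_zpowers, ho])
  have huZ : u ∉ Subgroup.center H := fun h => hpp.ne_one (by
    rw [← hu, hZp u h (hu ▸ pow_orderOf_eq_one u), orderOf_one])
  -- the subgroup generated by the elements of order `p`
  obtain ⟨S, hSu⟩ := exists_sect (exactPrime_pClosure hG)
    (u := (⟨u, mem_pClosure hu⟩ : pClosure H p)) (by rw [Subgroup.orderOf_mk, hu])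
  have hSu' : (S.u : H) = u := by rw [hSu]
  have h := hyp_pClosure hG hnn hζ hfaith (by omega) S
  have hdK : charDegree (fun k : pClosure H p => ζ k) = d := by rw [← hdeg]; simp [charDegree]
  have he := h.rowE_of_upper (by rw [hdK]; exact hd1.1)
  obtain ⟨t, s, X, -, -, -, -, hl⟩ := Upper.exists_basic h
  set E := eGroup S (trivIrr S.V) with hE
  have hEcard : Nat.card E = idx p := by
    have hr : rowE S (trivIrr S.V) = idx p := by simp only [idx]; omega
    exact hr
  have hEpow : ∀ l ∈ E, l ^ idx p = 1 := fun l hl' => by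
    have h1 : (⟨l, hl'⟩ : E) ^ Nat.card E = 1 := pow_card_eq_one'
    rw [hEcard] at h1
    exact congrArg Subtype.val h1
  have hnE : ∀ l : (ZMod p)ˣ, (l : ZMod p) = n → l ∉ E := fun l hln hlE => by
    have h1 := congrArg Units.val (hEpow l hlE)
    rw [Units.val_pow_eq_pow_val, hln, Units.val_one] at h1
    rcases hcases' with ⟨rfl, rfl⟩ | ⟨rfl, rfl⟩
    · exact zmod_facts.1 h1
    · exact zmod_facts.2.1 h1
  have hsqr : IsConj u (u ^ 4) := by
    obtain ⟨l, hlE, hl1⟩ : ∃ l ∈ E, l ≠ 1 := by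
      by_contra hno
      push Not at hno
      have : E = ⊥ := (Subgroup.eq_bot_iff_forall _).2 hno
      rw [this, Subgroup.card_bot] at hEcard
      rcases hcases' with ⟨rfl, -⟩ | ⟨rfl, -⟩ <;> simp [idx] at hEcard
    obtain ⟨y, -, hy⟩ := id hlE
    have hconj : IsConj u (u ^ (l : ZMod p).val) := isConj_iff.2 ⟨((y : pClosure H p) : H), by
      have := congrArg Subtype.val hy
      rwa [Subgroup.coe_mul, Subgroup.coe_mul, Subgroup.coe_inv, SubmonoidClass.coe_pow, hSu'] at this⟩
    have hlp := congrArg Units.val (hEpow l hlE)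
    rw [Units.val_pow_eq_pow_val, Units.val_one] at hlp
    have hl1' : (l : ZMod p) ≠ 1 := fun e => hl1 (Units.ext e)
    have hlt := ZMod.val_lt (l : ZMod p)
    rcases hcases' with ⟨rfl, -⟩ | ⟨rfl, -⟩
    · have h4 : (l : ZMod 5) = 4 := by
        exact zmod_facts.2.2.2.2.1 _ hlp hl1'
      rw [h4] at hconj
      exact hconj
    · have h24 : (l : ZMod 7) = 4 ∨ (l : ZMod 7) = 2 := by
        exact zmod_facts.2.2.2.2.2 _ hlp hl1'
      rcases h24 with h4 | h2
      · rw [h4] at hconj
        exact hconj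
      · rw [h2] at hconj
        have h2' : IsConj u (u ^ 2) := hconj
        have := isConj_pow h2' 2
        rw [← pow_mul] at this
        exact h2'.trans this
  have hnot : ¬ IsConj u (u ^ n) := fun hcn => by
    obtain ⟨c, hc⟩ := isConj_iff.1 hcn
    have hn0 : (n : ZMod p) ≠ 0 := by
      rcases hcases' with ⟨rfl, rfl⟩ | ⟨rfl, rfl⟩
      · exact zmod_facts.2.2.1
      · exact zmod_facts.2.2.2.1
    refine hnE (Units.mk0 _ hn0) rfl (hl _ fun i => ?_)
    show ζ ((S.u ^ _ : pClosure H p) : H) = ζ ((S.u ^ _ : pClosure H p) : H)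
    rw [SubmonoidClass.coe_pow, SubmonoidClass.coe_pow, hSu', Units.val_mk0]
    rw [show u ^ ((n : ZMod p) * i).val = c * u ^ i.val * c⁻¹ from ?_]
    · exact IsIrrCharacter.isClassFunction hζ _ _
    · rw [← conj_pow, hc, ← pow_mul, pow_eq_pow_iff_modEq, hu, ← ZMod.natCast_eq_natCast_iff]
      push_cast [ZMod.natCast_zmod_val]
      ring
  -- the eigenvalues
  obtain ⟨-, hline, -⟩ := Linear.eigen_spec (p := p) (ρ := ρ) hρi (by omega) hnc hG.sq
  obtain ⟨hline, -⟩ := hline u hu
  obtain ⟨ι, hι, bs, μ, hcard, hμ, hb, hchar⟩ := exists_eigenbasis ρ u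
  rw [hu] at hμ
  have hb1 : ∀ i, ρ u (bs i) = μ i • bs i := fun i => by simpa using hb 1 i
  have hinj : ∀ i j, μ i = μ j → i = j := fun i j hij => by
    by_contra hne
    have hi : bs i ∈ Module.End.eigenspace (ρ u) (μ i) := Module.End.mem_eigenspace_iff.2 (hb1 i)
    have hj : bs j ∈ Module.End.eigenspace (ρ u) (μ i) := Module.End.mem_eigenspace_iff.2 (by rw [hb1, hij])
    obtain ⟨w₀, -, hw₀⟩ := finrank_eq_one_iff'.1 (le_antisymm (hline (μ i))
      (Nat.pos_of_ne_zero fun h0 => bs.ne_zero i (by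
        rw [Submodule.finrank_eq_zero.1 h0] at hi
        exact (Submodule.mem_bot ℂ).1 hi)))
    obtain ⟨a, ha⟩ := hw₀ ⟨bs i, hi⟩
    obtain ⟨b, hb'⟩ := hw₀ ⟨bs j, hj⟩
    have ha' : a • (w₀ : Fin m → ℂ) = bs i := congrArg Subtype.val ha
    have hb'' : b • (w₀ : Fin m → ℂ) = bs j := congrArg Subtype.val hb'
    have e : b • bs i = a • bs j := by rw [← ha', ← hb'', smul_smul, smul_smul, mul_comm]
    have h2 := congrArg (fun x => bs.repr x i) e
    simp only [map_smul, Module.Basis.repr_self, Finsupp.smul_apply, Finsupp.single_eq_same,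
      Finsupp.single_eq_of_ne hne, smul_eq_mul, mul_one, mul_zero] at h2
    exact bs.ne_zero j (by rw [← hb'', h2, zero_smul])
  have hcardι : Fintype.card ι = d := hcard.trans hfin
  have hsumval : ∀ {χ : H → ℂ}, IsCharacter H χ →
      ∑ k ∈ range p, χ (u ^ k) = χ 1 + (idx p : ℂ) * (χ u + χ (u ^ n)) :=
    fun hχ => sum_powers_of hcases' hu hsqr hχ
  have hζc : IsCharacter H ζ := IsIrrCharacter.isCharacter hζ
  have hζ1 : ζ 1 = (d : ℂ) := by rw [← hρ, ρ.char_one, hfin]
  obtain ⟨i₀, hi₀⟩ : ∃ i₀, μ i₀ = 1 := by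
    by_contra hno
    push Not at hno
    have hsum : ∑ k ∈ range p, ζ (u ^ k) = 0 := by
      rw [← hρ, sum_congr rfl fun k _ => hchar k, sum_comm,
        sum_eq_zero fun i _ => by rw [Nineteen.geom_sum_root (hμ i), if_neg (hno i)]]
    rw [hsumval hζc, hζ1] at hsum
    have hint : IsIntegral ℤ (ζ u + ζ (u ^ n)) :=
      (IsCharacter.isIntegral hζc u).add (IsCharacter.isIntegral hζc _)
    have he0 : (idx p : ℂ) ≠ 0 := by rcases hcases' with ⟨rfl, -⟩ | ⟨rfl, -⟩ <;> norm_num [idx]
    rw [show ζ u + ζ (u ^ n) = (((-(d : ℚ)) / (idx p : ℚ) : ℚ) : ℂ) by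
      push_cast; rw [eq_div_iff he0]; linear_combination hsum] at hint
    obtain ⟨z, hz⟩ := exists_int_of_isIntegral_ratCast hint
    rcases hcases with ⟨rfl, -, rfl⟩ | ⟨rfl, -, rfl⟩
    · have : ((2 * z : ℤ) : ℚ) = ((-3 : ℤ) : ℚ) := by push_cast; rw [hz]; norm_num [idx]
      have := Int.cast_injective this
      omega
    · have : ((3 * z : ℤ) : ℚ) = ((-4 : ℤ) : ℚ) := by push_cast; rw [hz]; norm_num [idx]
      have := Int.cast_injective this
      omega
  -- the centraliser
  have hcentH : ∀ g : H, g * u = u * g → ∃ k : ℤ, ∃ z ∈ Subgroup.center H, g = u ^ k * z := by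
    obtain ⟨SH, hSH⟩ := exists_sect hG hu
    obtain ⟨M, hM⟩ := exists_isPModular_of_prime hG.prime
    haveI := isPrime_of_isPModular hM
    intro g hg
    obtain ⟨x, hx, v, hgv⟩ := exists_decomp SH.ord hG.sq hM SH.V.subtype SH.range_subtype
      (c := g) (by rw [hSH]; exact hg)
    rw [hSH] at hx
    obtain ⟨k, rfl⟩ := Subgroup.mem_zpowers_iff.1 hx
    refine ⟨k, (v : H), regular_le_center hG SH ρ hρi bs hμ (fun i => by rw [hSH, hb1])
      (fun ε => by rw [hSH]; exact hline ε) hi₀ (by omega) v, hgv⟩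
  -- the auxiliary character
  set Z := Subgroup.center H with hZdef
  haveI := Fintype.ofFinite (IrrCharacter H)
  set ψ : H → ℂ := fun g => ζ g * conj (ζ g) - 1 with hψdef
  have hsq' : IsCharacter H (fun g => ζ g * conj (ζ g)) := isCharacter_mul hζc (isCharacter_conj hζc)
  have hψ : IsCharacter H ψ := by
    obtain ⟨mm, hmm⟩ := IsCharacter.exists_sum hsq'
    have h1 : mm (trivIrr H) ≠ 0 := fun h0 => by
      have h1 := classInner_self_of_isIrr hζ
      have h2 := classInner_sum_irr (fun c => (mm c : ℂ)) (trivIrr H)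
      rw [← hmm, h0, Nat.cast_zero, classInner] at h2
      rw [classInner] at h1
      simp only [trivIrr_apply, map_one, mul_one] at h2
      rw [h2] at h1
      exact zero_ne_one h1
    exact (exists_sub_isCharacter hmm h1).1
  have hscal : ∀ z ∈ Z, ∀ g, ψ (g * z) = ψ g := fun z hz g => by
    obtain ⟨c, hc⟩ := Linear.exists_scalar_of_mem_center (ρ := ρ) hz
    have h1 : ∀ g, ζ (g * z) = c * ζ g := fun g => by
      rw [← hρ, Representation.character, Representation.character, map_mul, hc, mul_smul_comm, mul_one,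
        map_smul, smul_eq_mul]
    have hc1 : c * conj c = 1 := by
      have h2 := hc
      rw [Module.End.one_eq_id] at h2
      haveI : Nontrivial (Fin m → ℂ) := Module.nontrivial_of_finrank_pos (R := ℂ) (by omega)
      rw [Complex.mul_conj', norm_eq_one_of_smul_id ρ h2]; norm_num
    simp only [hψdef, h1, map_mul]
    linear_combination (ζ g * conj (ζ g)) * hc1
  obtain ⟨A, hA, hAψ⟩ := exists_descend_char hψ Z (fun z hz => by
    have := hscal z hz 1
    rwa [one_mul] at this)
  have hAζ : ∀ g : H, A (g : H ⧸ Z) = ζ g * conj (ζ g) - 1 := fun g => (hAψ g).symm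
  have hsurj := QuotientGroup.mk_surjective (s := Z)
  set ū : H ⧸ Z := (u : H ⧸ Z) with hū
  have hupow : ∀ k : ℤ, ū ^ k = ((u ^ k : H) : H ⧸ Z) := fun k => rfl
  have hdp : d < p := by omega
  have hcore : Core p n ū := by
    refine ⟨hcases', ?_, ?_, fun hd => hG.sq (hd.trans (Subgroup.card_quotient_dvd_card Z)), ?_, ?_, ?_⟩
    · refine orderOf_eq_prime ?_ fun e => huZ ((QuotientGroup.eq_one_iff u).1 e)
      rw [hū, ← QuotientGroup.mk_pow, ← hu, pow_orderOf_eq_one, QuotientGroup.mk_one]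
    · intro g hg
      obtain ⟨g, rfl⟩ := hsurj g
      rw [hū, ← QuotientGroup.mk_mul, ← QuotientGroup.mk_mul, QuotientGroup.eq] at hg
      set z := (g * u)⁻¹ * (u * g) with hz
      have hzg : g⁻¹ * u * g = u * z := by rw [hz]; group
      have hzp : z ^ p = 1 := by
        have hcz : Commute u z := Subgroup.mem_center_iff.1 hg u
        have h1 : (g⁻¹ * u * g⁻¹⁻¹) ^ p = 1 := by rw [conj_pow, ← hu, pow_orderOf_eq_one, mul_one, mul_inv_cancel]
        rwa [inv_inv, hzg, hcz.mul_pow, ← hu, pow_orderOf_eq_one, one_mul, hu] at h1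
      have hz1 := hZp z hg hzp
      rw [hz1, mul_one, mul_assoc, inv_mul_eq_iff_eq_mul] at hzg
      obtain ⟨k, w, hw, hgk⟩ := hcentH g hzg.symm
      refine Subgroup.mem_zpowers_iff.2 ⟨k, ?_⟩
      rw [hupow, QuotientGroup.eq, hgk]
      simpa using hw
    · exact MonoidHom.map_isConj (QuotientGroup.mk' Z) hsqr
    · intro hc
      obtain ⟨c, hc⟩ := isConj_iff.1 hc
      obtain ⟨c, rfl⟩ := hsurj c
      rw [hū, ← QuotientGroup.mk_inv, ← QuotientGroup.mk_mul, ← QuotientGroup.mk_mul, ← QuotientGroup.mk_pow,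
        QuotientGroup.eq] at hc
      set z := (c * u * c⁻¹)⁻¹ * u ^ n with hz
      have hzc : c * u * c⁻¹ * z = u ^ n := by rw [hz]; group
      have hcz : Commute (c * u * c⁻¹) z := Subgroup.mem_center_iff.1 hc _
      have hzp : z ^ p = 1 := by
        have h1 := congrArg (fun x : H => x ^ p) hzc
        simp only [hcz.mul_pow, conj_pow] at h1
        rw [← pow_mul, mul_comm n p, pow_mul, ← hu, pow_orderOf_eq_one, one_pow, mul_one, mul_inv_cancel,
          one_mul, hu] at h1
        exact h1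
      exact hnot (isConj_iff.2 ⟨c, by rw [← hzc, hZp z hc hzp, mul_one]⟩)
    · intro N hN huN
      haveI := hN
      set L := N.comap (QuotientGroup.mk' Z) with hL
      have huL : u ∈ L := huN
      have hLn : L.Normal := hN.comap _
      have hall : ∀ x : H, orderOf x = p → x ∈ L := fun x hx =>
        Cfsg.Agent.S4503.mem_of_orderOf hG hLn hu hx huL
      have hKL : pClosure H p ≤ L := (Subgroup.closure_le _).2 hall
      have hZL : Z ≤ L := fun z hz => by
        show (z : H ⧸ Z) ∈ N
        rw [(QuotientGroup.eq_one_iff z).2 hz]; exact N.one_mem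
      refine eq_top_iff.2 fun g _ => ?_
      obtain ⟨g, rfl⟩ := hsurj g
      show g ∈ L
      -- a conjugate inside the closure
      set x := g * u * g⁻¹ with hxdef
      have hxo : orderOf x = p :=
        hu ▸ orderOf_injective (MulAut.conj g).toMonoidHom (MulAut.conj g).injective u
      haveI := Fintype.ofFinite (pClosure H p)
      have hKfac : (Nat.card (pClosure H p)).factorization p = 1 := by
        have hK := exactPrime_pClosure hG
        refine le_antisymm ?_ (hpp.factorization_pos_of_dvd Nat.card_pos.ne' hK.dvd)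
        by_contra h'
        push Not at h'
        exact hK.sq ((hpp.pow_dvd_iff_le_factorization Nat.card_pos.ne').2 h')
      let P : Sylow p (pClosure H p) := Sylow.ofCard (Subgroup.zpowers S.u)
        (by rw [Nat.card_zpowers, S.ord, hKfac, pow_one])
      let R : Sylow p (pClosure H p) := Sylow.ofCard (Subgroup.zpowers ⟨x, mem_pClosure hxo⟩)
        (by rw [Nat.card_zpowers, Subgroup.orderOf_mk, hxo, hKfac, pow_one])
      obtain ⟨y, hy⟩ := MulAction.exists_smul_eq (pClosure H p) R P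
      have hmem : y * ⟨x, mem_pClosure hxo⟩ * y⁻¹ ∈ Subgroup.zpowers S.u := by
        have h1 : y * ⟨x, mem_pClosure hxo⟩ * y⁻¹ ∈ ((y • R : Sylow p (pClosure H p)) : Subgroup (pClosure H p)) := by
          rw [Sylow.coe_subgroup_smul, Subgroup.mem_smul_pointwise_iff_exists]
          exact ⟨_, Subgroup.mem_zpowers _, by simp [MulAut.smul_def, MulAut.conj_apply]⟩
        rw [hy] at h1
        exact h1
      obtain ⟨a, ha⟩ := mem_powers_iff_mem_zpowers.2 hmem
      have ha' : ((y : H) * g) * u * ((y : H) * g)⁻¹ = u ^ a := by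
        have := congrArg Subtype.val ha
        simp only [SubmonoidClass.coe_pow, hSu', Subgroup.coe_mul, Subgroup.coe_inv] at this
        rw [this, hxdef]; group
      set c := (y : H) * g with hcdef
      have ha0 : (a : ZMod p) ≠ 0 := fun h0 => by
        rw [ZMod.natCast_eq_zero_iff] at h0
        rw [orderOf_dvd_iff_pow_eq_one.1 (hu ▸ h0), conj_eq_one_iff] at ha'
        rw [ha', orderOf_one] at hu
        exact hpp.ne_one hu.symm
      have hlE : Units.mk0 _ ha0 ∈ E := hl _ fun i => by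
        show ζ ((S.u ^ _ : pClosure H p) : H) = ζ ((S.u ^ _ : pClosure H p) : H)
        rw [SubmonoidClass.coe_pow, SubmonoidClass.coe_pow, hSu', Units.val_mk0]
        rw [show u ^ ((a : ZMod p) * i).val = c * u ^ i.val * c⁻¹ from ?_]
        · exact IsIrrCharacter.isClassFunction hζ _ _
        · rw [← conj_pow, ha', ← pow_mul, pow_eq_pow_iff_modEq, hu, ← ZMod.natCast_eq_natCast_iff]
          push_cast [ZMod.natCast_zmod_val]
          ring
      obtain ⟨w, -, hw⟩ := hlE
      set w' : H := ((w : pClosure H p) : H) with hw'def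
      have hw' : w' * u * w'⁻¹ = u ^ a := by
        have := congrArg Subtype.val hw
        simp only [Subgroup.coe_mul, Subgroup.coe_inv, SubmonoidClass.coe_pow, hSu', Units.val_mk0,
          ZMod.val_natCast] at this
        rw [hw'def, this, ← hu, pow_mod_orderOf]
      have hcomm : (w'⁻¹ * c) * u = u * (w'⁻¹ * c) := by
        calc (w'⁻¹ * c) * u = w'⁻¹ * (c * u * c⁻¹) * c := by group
          _ = w'⁻¹ * (w' * u * w'⁻¹) * c := by rw [ha', hw']
          _ = u * (w'⁻¹ * c) := by group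
      obtain ⟨k, z, hz, hgz⟩ := hcentH _ hcomm
      have hgL : g = (y : H)⁻¹ * (w' * (u ^ k * z)) := by rw [← hgz, hcdef]; group
      rw [hgL]
      exact L.mul_mem (L.inv_mem (hKL y.2)) (L.mul_mem (hKL (w : pClosure H p).2)
        (L.mul_mem (L.zpow_mem huL k) (hZL hz)))
  refine ⟨ū, A, hcore, hA, ?_, ?_, ?_, ?_, ?_, ?_, ?_⟩
  · rw [show (1 : H ⧸ Z) = ((1 : H) : H ⧸ Z) from rfl, hAζ, hζ1, Complex.conj_natCast, ← hd1.2.2,
      Nat.cast_sub (Nat.one_le_pow _ _ (by omega))]
    push_cast; ring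
  · intro hc
    have hc' : IsCharacter H (fun g => ψ g - 1) := by
      obtain ⟨r, σ, hσ⟩ := hc
      refine ⟨r, σ.comp (QuotientGroup.mk' Z), funext fun g => ?_⟩
      show σ.character (g : H ⧸ Z) = _
      rw [hσ, Pi.sub_apply, trivIrr_apply, ← hAψ]
    obtain ⟨k, hk⟩ := IsCharacter.exists_classInner_eq_nat hc' (trivIrr H)
    have h1 := classInner_self_of_isIrr hζ
    rw [classInner] at h1 hk
    simp only [hψdef, trivIrr_apply, map_one, mul_one, sum_sub_distrib, sum_const, card_univ,
      nsmul_eq_mul, ← Nat.card_eq_fintype_card] at hk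
    rw [mul_sub, mul_sub, h1, inv_mul_cancel₀ (Nat.cast_ne_zero.2 Nat.card_pos.ne')] at hk
    have : ((-1 : ℤ) : ℂ) = ((k : ℤ) : ℂ) := by push_cast; linear_combination hk
    have := Int.cast_injective this
    omega
  · have hψ1 : ψ 1 = ((d : ℂ) * d - 1) := by simp only [hψdef, hζ1, Complex.conj_natCast]
    have hsum : ∑ k ∈ range p, ψ (u ^ k) = (p : ℂ) * d - p := by
      simp only [hψdef, sum_sub_distrib, sum_const, card_range, nsmul_one]
      congr 1
      rw [sum_congr rfl fun k _ => show ζ (u ^ k) * conj (ζ (u ^ k)) = ∑ i, ∑ j, (μ i * conj (μ j)) ^ k by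
        rw [← hρ, hchar k, map_sum, sum_mul_sum]
        simp only [map_pow, mul_pow]]
      rw [sum_comm, sum_congr rfl (g := fun _ => (p : ℂ)) fun i _ => ?_, sum_const, card_univ, hcardι,
        nsmul_eq_mul, mul_comm]
      rw [sum_comm, sum_congr rfl fun j _ => Nineteen.geom_sum_root (show (μ i * conj (μ j)) ^ p = 1 by
        rw [mul_pow, hμ, ← map_pow, hμ, map_one, mul_one]), sum_eq_single i]
      · rw [if_pos (by rw [Complex.mul_conj', norm_eq_one_of_pow_eq_one' hpp.ne_zero (hμ i)]; norm_num)]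
      · intro j _ hji
        rw [if_neg fun e => hji (hinj j i ?_)]
        have h2 : μ j * conj (μ j) = 1 := by
          rw [Complex.mul_conj', norm_eq_one_of_pow_eq_one' hpp.ne_zero (hμ j)]; norm_num
        linear_combination μ i * h2 - μ j * e
      · exact fun h => absurd (mem_univ i) h
    rw [hsumval hψ, hψ1] at hsum
    rw [hū, ← QuotientGroup.mk_pow, ← hAψ, ← hAψ]
    have he0 : (idx p : ℂ) ≠ 0 := by rcases hcases' with ⟨rfl, -⟩ | ⟨rfl, -⟩ <;> norm_num [idx]
    apply mul_left_cancel₀ he0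
    rw [eq_sub_of_add_eq' hsum]
    rcases hcases with ⟨rfl, -, rfl⟩ | ⟨rfl, -, rfl⟩ <;> norm_num [idx]
  · intro g
    obtain ⟨g, rfl⟩ := hsurj g
    rw [hAζ, map_sub, map_mul, Complex.conj_conj, map_one, mul_comm]
  · intro g a ha
    obtain ⟨g, rfl⟩ := hsurj g
    rw [hAζ, Complex.mul_conj] at ha
    have h2 := congrArg Complex.re ha
    simp only [Complex.sub_re, Complex.ofReal_re, Complex.one_re, Complex.intCast_re] at h2
    have : (-1 : ℝ) ≤ a := by rw [← h2]; have := Complex.normSq_nonneg (ζ g); linarith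
    exact_mod_cast this
  · intro g hg
    obtain ⟨g, rfl⟩ := hsurj g
    rw [show (1 : H ⧸ Z) = ((1 : H) : H ⧸ Z) from rfl, hAζ, hAζ, hζ1, Complex.conj_natCast, sub_left_inj,
      Complex.mul_conj'] at hg
    have hnorm : ‖ρ.character g‖ = (finrank ℂ (Fin m → ℂ) : ℝ) := by
      have h2 : (‖ζ g‖ ^ 2 : ℝ) = (d : ℝ) ^ 2 := by
        apply Complex.ofReal_injective
        push_cast
        rw [hg]; ring
      rw [hρ, hfin]
      nlinarith [norm_nonneg (ζ g), show (0 : ℝ) ≤ d from Nat.cast_nonneg d]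
    obtain ⟨ω, hω, -⟩ := exists_smul_of_norm_character ρ g hnorm
    exact (QuotientGroup.eq_one_iff g).2 (Linear.mem_center_of_scalar hρi (c := ω) hω)
  · intro N hN F hF hAF hFN r hr hr2
    haveI := hN
    set L := N.comap (QuotientGroup.mk' Z) with hL
    haveI hLn : L.Normal := hN.comap _
    haveI := Fintype.ofFinite L
    haveI := Fintype.ofFinite (IrrCharacter L)
    have hres : IsCharacter L (fun l : L => ζ l) := ⟨m, ρ.comp L.subtype, funext fun l => congrFun hρ l⟩
    obtain ⟨mm, hmm⟩ := IsCharacter.exists_sum hres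
    choose D hDeg hDpos using exists_degree (Q := L)
    have hdegsum : ∑ x, mm x * D x = d := by
      have := congrFun hmm 1
      simp only [Finset.sum_apply, Pi.smul_apply, smul_eq_mul, hDeg, OneMemClass.coe_one, hζ1] at this
      exact_mod_cast this.symm
    have hnorm : (r + 1 : ℕ) ≤ ∑ x, mm x * mm x := by
      obtain ⟨r', σ, hσ⟩ := hAF
      have hres2 : IsCharacter L (fun l : L => A ((l : H) : H ⧸ Z) - F ((l : H) : H ⧸ Z)) :=
        ⟨r', σ.comp ((QuotientGroup.mk' Z).comp L.subtype), funext fun l => congrFun hσ _⟩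
      obtain ⟨k, hk⟩ := IsCharacter.exists_classInner_eq_nat hres2 (trivIrr L)
      have hFl : ∀ l : L, F ((l : H) : H ⧸ Z) = (r : ℂ) := fun l => (hFN _ l.2).trans hr
      have h2 : classInner (fun l : L => ζ l) (fun l : L => ζ l) = ((∑ x, mm x * mm x : ℕ) : ℂ) := by
        rw [hmm, classInner_sum_right]
        simp only [classInner_smul_right, classInner_sum_irr, Complex.conj_natCast]
        push_cast; rfl
      have h3 : classInner (fun l : L => ζ l) (fun l : L => ζ l) = ((k + r + 1 : ℕ) : ℂ) := by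
        rw [classInner] at hk ⊢
        simp only [trivIrr_apply, map_one, mul_one, hFl, hAζ, sum_sub_distrib, sum_const, card_univ,
          nsmul_eq_mul, ← Nat.card_eq_fintype_card, mul_sub, mul_one,
          inv_mul_cancel₀ (show (Nat.card L : ℂ) ≠ 0 from Nat.cast_ne_zero.2 Nat.card_pos.ne'),
          inv_mul_cancel_left₀ (show (Nat.card L : ℂ) ≠ 0 from Nat.cast_ne_zero.2 Nat.card_pos.ne')] at hk
        push_cast
        linear_combination hk
      rw [h2] at h3
      have := Nat.cast_injective h3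
      omega
    have hlin : ∀ x, mm x ≠ 0 → D x = 1 := by
      intro x hx
      by_contra hx1
      have hpos := hDpos x
      rw [← add_sum_erase _ _ (mem_univ x)] at hdegsum hnorm
      set R := ∑ y ∈ univ.erase x, mm y with hR
      have hR1 : R ≤ ∑ y ∈ univ.erase x, mm y * D y :=
        sum_le_sum fun y _ => Nat.le_mul_of_pos_right _ (hDpos y)
      have hR2 : ∑ y ∈ univ.erase x, mm y * mm y ≤ R * R := by
        rw [hR, sum_mul]
        exact sum_le_sum fun y hy => Nat.mul_le_mul_left _ (single_le_sum (fun z _ => Nat.zero_le _) hy)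
      have hm2 : mm x * 2 ≤ mm x * D x := Nat.mul_le_mul_left _ (by omega)
      have hmr : mm x * 2 + R ≤ d := by omega
      rcases hcases with ⟨rfl, -, rfl⟩ | ⟨rfl, -, rfl⟩ <;> simp only [idx] at hr2 <;> norm_num at hr2
      · obtain ⟨e1, e2⟩ : mm x = 1 ∧ R ≤ 1 := by omega
        have : R * R ≤ 1 := Nat.mul_le_mul e2 e2
        rw [e1] at hnorm
        omega
      · rcases (show (mm x = 1 ∧ R ≤ 2) ∨ (mm x = 2 ∧ R = 0) by omega) with ⟨e1, e2⟩ | ⟨e1, e2⟩
        · have : R * R ≤ 4 := Nat.mul_le_mul e2 e2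
          rw [e1] at hnorm
          omega
        · rw [e2] at hR2
          rw [e1] at hnorm
          omega
    have hab : ∀ a b : L, a * b = b * a := CfsgLib.SmallGroups.QuasiSimple.comm_of_linear
      (χ := fun l : L => ζ l) (fun l hl => Subtype.ext (hfaith l hl)) hmm fun x hx => by
        rw [charDegree, hDeg, hlin x hx, Complex.natCast_re, Nat.floor_natCast]
    have hZL : Z ≤ L := fun z hz => by
      show (z : H ⧸ Z) ∈ N
      rw [(QuotientGroup.eq_one_iff z).2 hz]; exact N.one_mem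
    -- the extension by `u` is abelian
    set W := (Subgroup.zpowers (u : H ⧸ L)).comap (QuotientGroup.mk' L) with hW
    have huW : u ∈ W := Subgroup.mem_zpowers _
    have hLW : L ≤ W := fun l hl => by
      show (l : H ⧸ L) ∈ Subgroup.zpowers _
      rw [(QuotientGroup.eq_one_iff l).2 hl]; exact one_mem _
    haveI := Fintype.ofFinite W
    haveI := Fintype.ofFinite (IrrCharacter W)
    set LW := L.subgroupOf W with hLWdef
    have hidx : LW.index ∣ p := by
      let f : W →* Subgroup.zpowers (u : H ⧸ L) :=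
        ((QuotientGroup.mk' L).comp W.subtype).codRestrict _ fun w => w.2
      have hk : f.ker = LW := by
        ext w
        simp only [MonoidHom.mem_ker, hLWdef, Subgroup.mem_subgroupOf, f]
        rw [Subtype.ext_iff]
        exact QuotientGroup.eq_one_iff (w : H)
      rw [← hk, Subgroup.index_ker]
      refine (Subgroup.card_subgroup_dvd_card _).trans ?_
      rw [Nat.card_zpowers]
      exact orderOf_dvd_of_pow_eq_one (by rw [← QuotientGroup.mk_pow, ← hu, pow_orderOf_eq_one, QuotientGroup.mk_one])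
    have hWres : IsCharacter W (fun w : W => ζ w) := ⟨m, ρ.comp W.subtype, funext fun w => congrFun hρ w⟩
    obtain ⟨mw, hmw⟩ := IsCharacter.exists_sum hWres
    have hWab : ∀ a b : W, a * b = b * a := by
      refine CfsgLib.SmallGroups.QuasiSimple.comm_of_linear (χ := fun w : W => ζ w)
        (fun w hw => Subtype.ext (hfaith w hw)) hmw fun x hx => ?_
      have hle := CfsgLib.SmallGroups.QuasiSimple.charDegree_le hmw hx
      have hdW : charDegree (fun w : W => ζ w) = d := by rw [← hdeg]; simp [charDegree]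
      rw [hdW] at hle
      obtain ⟨D', hD', hdvd⟩ := exists_degree_dvd_index_of_abelian x.2 LW (fun a ha b hb => by
          have hc := congrArg Subtype.val (hab ⟨(a : H), ha⟩ ⟨(b : H), hb⟩)
          exact Subtype.ext hc)
      have hcd : charDegree (x : W → ℂ) = D' := by
        rw [charDegree, hD', Complex.natCast_re, Nat.floor_natCast]
      rcases (Nat.dvd_prime hpp).1 (hdvd.trans hidx) with e | e
      · rw [hcd, e]
      · omega
    refine (Subgroup.eq_bot_iff_forall _).2 fun x hx => ?_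
    obtain ⟨x, rfl⟩ := hsurj x
    have hxL : x ∈ L := hx
    obtain ⟨k, z, hz, rfl⟩ := hcentH x (congrArg Subtype.val (hWab ⟨x, hLW hxL⟩ ⟨u, huW⟩))
    rw [QuotientGroup.eq_one_iff]
    by_contra hnz
    have hpk : ¬ (p : ℤ) ∣ k := fun ⟨c, hc⟩ => hnz (by
      rw [hc, zpow_mul, zpow_natCast, ← hu, pow_orderOf_eq_one, one_zpow, one_mul]; exact hz)
    obtain ⟨a, b, hab'⟩ := ((Nat.prime_iff_prime_int.1 hpp).coprime_iff_not_dvd.2 hpk)
    have huk : u ^ k ∈ L := by
      have := L.mul_mem hxL (L.inv_mem (hZL hz))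
      rwa [mul_inv_cancel_right] at this
    have huL : u ∈ L := by
      have : u = (u ^ k) ^ b := by
        rw [← zpow_mul]
        calc u = u ^ (a * p + b * k) := by rw [hab', zpow_one]
          _ = _ := by
            rw [zpow_add, mul_comm a, zpow_mul, zpow_natCast, ← hu, pow_orderOf_eq_one, one_zpow, one_mul,
              mul_comm b]
      rw [this]; exact L.zpow_mem huk b
    have htop : N = ⊤ := hcore.gen N hN huL
    refine huZ (Subgroup.mem_center_iff.2 fun g => ?_)
    have hgL : g ∈ L := by show (g : H ⧸ Z) ∈ N; rw [htop]; trivial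
    exact congrArg Subtype.val (hab ⟨g, hgL⟩ ⟨u, huL⟩)

end CfsgLib.OrderDegrees.SmallChar
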