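import Cfsg.Agent.Lib.OrderDegrees.SmallChar.SevenShape
import Cfsg.Agent.Lib.Correspondences.RealIrr
import Cfsg.Agent.Lib.RealChar.Indicator

/-!
# The prime seven
-/

set_option autoImplicit false
set_option linter.unusedSectionVars false
set_option linter.style.haveILetI false

namespace CfsgLib.OrderDegrees.SmallChar

open Cfsg CfsgLib.CharTheory Finset
open scoped ComplexConjugate Classical

variable {Q : Type*} [Group Q] [Fintype Q] [Fintype (IrrCharacter Q)] {u : Q} {A : Q → ℂ}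
  {X X' f θ : IrrCharacter Q} {ε : IrrCharacter Q → ℤ}

theorem regular_of_mem (h : Core 7 3 u) {M : Subgroup Q} (hM : M.Normal) (hu : u ∉ M) {m : Q}
    (hm : m ∈ M) : ¬ 7 ∣ orderOf m := fun hd => by
  have h1 := normal_card h hM hu
  have := hd.trans (Subgroup.orderOf_dvd_natCard M hm)
  omega

theorem exists_int_pair (h : Core 7 3 u) (hS : Special 7 3 u X X' (-1) {f, θ} ε) (hεf : ε f = 1)
    (hεθ : ε θ = -1) :
    (∀ g, ∃ a : ℤ, (f : Q → ℂ) g = a) ∧ (∀ g, ∃ a : ℤ, (θ : Q → ℂ) g = a) := by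
  refine ⟨fun g => exists_int_memF h hS (by simp) (fun c hc _ he => ?_) g,
    fun g => exists_int_memF h hS (by simp) (fun c hc _ he => ?_) g⟩ <;>
  · rcases mem_insert.1 hc with rfl | hc
    · first
        | rfl
        | (exfalso; rw [hεf, hεθ] at he; norm_num at he)
    · rw [mem_singleton] at hc
      subst hc
      first
        | rfl
        | (exfalso; rw [hεf, hεθ] at he; norm_num at he)

theorem rel_pair (hS : Special 7 3 u X X' (-1) {f, θ} ε) (hne : f ≠ θ) (hεf : ε f = 1) (hεθ : ε θ = -1)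
    {g : Q} (hg : ¬ 7 ∣ orderOf g) : (X : Q → ℂ) g = 1 + (f : Q → ℂ) g - (θ : Q → ℂ) g := by
  have := (hS.rel g hg).2
  rw [sum_pair hne, hεf, hεθ] at this
  push_cast at this
  linear_combination -this

theorem regular_sq {g : Q} (hg : ¬ 7 ∣ orderOf g) : ¬ 7 ∣ orderOf (g * g) := by
  rw [← sq]
  exact fun hd => hg (hd.trans (orderOf_pow_dvd 2))

/-- Degrees `8`, `3`, `6`: the order is `168`. -/
theorem seven_small (hD : Data 7 3 u A) (hS : Special 7 3 u X X' (-1) {f, θ} ε) (hne : f ≠ θ)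
    (hεf : ε f = 1) (hεθ : ε θ = -1) (hθ : (θ : Q → ℂ) 1 = ((6 : ℕ) : ℂ))
    (hsub : IsCharacter Q (A - (f : Q → ℂ))) (hf : (f : Q → ℂ) 1 = ((8 : ℕ) : ℂ))
    (hX : (X : Q → ℂ) 1 = ((3 : ℕ) : ℂ)) : IsSimpleGroup Q ∧ Nat.card Q = 168 := by
  have h := hD.core
  obtain ⟨hintf, hintθ⟩ := exists_int_pair h hS hεf hεθ
  have hrel : ∀ g, ¬ 7 ∣ orderOf g → (X : Q → ℂ) g = 1 + (f : Q → ℂ) g - (θ : Q → ℂ) g :=
    fun g hg => rel_pair hS hne hεf hεθ hg
  have hfK : ∀ m, (f : Q → ℂ) m = (f : Q → ℂ) 1 → m = 1 := fun m hm =>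
    eq_one_of_apply_eq hD (IsIrrCharacter.isCharacter f.2) hsub hf (by decide) hm
  have hker : ∀ M : Subgroup Q, M.Normal → u ∉ M →
      ((∀ m ∈ M, (X : Q → ℂ) m = (X : Q → ℂ) 1) ∨ ∀ m ∈ M, (θ : Q → ℂ) m = (θ : Q → ℂ) 1) → M = ⊥ := by
    intro M hM hu hcon
    haveI := hM
    refine (Subgroup.eq_bot_iff_forall _).2 fun m hm => hfK m ?_
    rcases hcon with hcon | hcon
    · refine apply_eq_of_shift f (IsIrrCharacter.isCharacter θ.2) M two_pos (fun x hx => ?_) hm
      have := hrel x (regular_of_mem h hM hu hx)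
      rw [hcon x hx, hX] at this
      push_cast at this ⊢
      linear_combination -this
    · refine apply_eq_of_shift f (IsIrrCharacter.isCharacter X.2) M (c := 5) (by norm_num) (fun x hx => ?_) hm
      have := hrel x (regular_of_mem h hM hu hx)
      rw [hcon x hx, hθ] at this
      push_cast at this ⊢
      linear_combination -this
  have hXK : ∀ g, (X : Q → ℂ) g = (X : Q → ℂ) 1 → g = 1 := by
    obtain ⟨K, hKn, hK, -⟩ := exists_kernel (IsIrrCharacter.isCharacter X.2)
    have hu : u ∉ K := fun hu => hS.diffX (((hK u).1 hu).trans ((hK _).1 (pow_mem hu 3)).symm)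
    intro g hg
    have := (hK g).2 hg
    rwa [hker K hKn hu (Or.inl fun m hm => (hK m).1 hm), Subgroup.mem_bot] at this
  obtain ⟨N, hN⟩ : 7 ∣ Nat.card Q := h.ord ▸ orderOf_dvd_natCard u
  have hint : ∀ g, ¬ 7 ∣ orderOf g → ∃ b : ℤ, (X : Q → ℂ) g = b := fun g hg => by
    obtain ⟨a, ha⟩ := hintf g
    obtain ⟨y, hy⟩ := hintθ g
    exact ⟨1 + a - y, by rw [hrel g hg, ha, hy]; push_cast; ring⟩
  have hb := card_dvd_bound h (IsIrrCharacter.isCharacter X.2) (m := 3) (by rw [hX]; norm_num)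
    (Finset.Icc (-1) 2) (fun g hg hg1 => by
      obtain ⟨b, hb⟩ := hint g hg
      obtain ⟨c, hc⟩ := hint (g * g) (regular_sq hg)
      obtain ⟨hb1, hb2⟩ := abs_le_degree (IsIrrCharacter.isCharacter X.2) hX hb
      obtain ⟨hc1, hc2⟩ := abs_le_degree (IsIrrCharacter.isCharacter X.2) hX hc
      have e := extSquare_three h (IsIrrCharacter.isCharacter X.2) hX g
      rw [hb, hc, map_intCast] at e
      have e' : b ^ 2 - c = 2 * b := by exact_mod_cast e
      have h3 : b ≠ 3 := fun e3 => hg1 (hXK g (by rw [hb, e3, hX]; norm_num))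
      push_cast at hb1 hb2 hc1 hc2
      refine ⟨b, mem_Icc.2 ⟨?_, by omega⟩, hb⟩
      nlinarith) hN
  rw [show ∏ l ∈ Finset.Icc (-1 : ℤ) 2, (3 - l) = 24 by decide] at hb
  have hN24 : N ∣ 24 := Int.natCast_dvd_natCast.1 (by exact_mod_cast hb)
  choose D hDeg hDpos using exists_degree (Q := Q)
  have hmod := sq_dvd_card_sub h hS D hDeg
  rw [sum_pair hne] at hmod
  rw [hDeg, Nat.cast_inj] at hX hf hθ
  rw [hX, hf, hθ, hN] at hmod
  have h2 : 2 ∣ Nat.card Q := two_dvd_card hD.char hD.real hD.orth (m := 15) (by rw [hD.deg]; rfl) (by norm_num)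
  rw [hN] at h2
  push_cast at hmod
  refine ⟨isSimple_of_faithful h hS fun M hM hu C hC hcon => ?_, ?_⟩
  · rcases hC with rfl | rfl | hC
    · exact hker M hM hu (Or.inl hcon)
    · refine hker M hM hu (Or.inl fun m hm => ?_)
      rw [← (hS.rel m (regular_of_mem h hM hu hm)).1, hcon m hm, (hS.rel 1 (regular_one h)).1]
    · simp only [mem_insert, mem_singleton] at hC
      rcases hC with rfl | rfl
      · exact (Subgroup.eq_bot_iff_forall _).2 fun m hm => hfK m (hcon m hm)
      · exact hker M hM hu (Or.inr hcon)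
  · have : N ≤ 24 := Nat.le_of_dvd (by norm_num) hN24
    interval_cases N <;> omega

theorem theta_range {a y : ℤ} (ha : -1 ≤ a) (ha' : a ≤ 15) (hy : -6 ≤ y) (hy' : y ≤ 6)
    (hq : 0 ≤ 30 - 3 * (1 + a - y) ^ 2 + 2 * a ^ 2 - 5 * y ^ 2) :
    -2 ≤ y ∧ (y = 6 → a = 15) ∧ (y = -2 → a = -1) ∧ (1 + a - y = 10 → a = 15) ∧ (y = 4 → 7 ≤ a) := by
  have hk : (a - 3 * y + 3) ^ 2 ≤ (6 - y) ^ 2 := by nlinarith
  have h1 : a - 3 * y + 3 ≤ 6 - y := by nlinarith
  have h2 : -(6 - y) ≤ a - 3 * y + 3 := by nlinarith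
  refine ⟨by omega, fun e => by omega, fun e => by omega, fun e => by omega, fun e => by omega⟩

/-- Degrees `15`, `10`, `6`: the order is `2520`. -/
theorem seven_large (hD : Data 7 3 u A) (hS : Special 7 3 u X X' (-1) {f, θ} ε) (hne : f ≠ θ)
    (hεf : ε f = 1) (hεθ : ε θ = -1) (hθ : (θ : Q → ℂ) 1 = ((6 : ℕ) : ℂ))
    (hf : (f : Q → ℂ) 1 = ((15 : ℕ) : ℂ)) (hX : (X : Q → ℂ) 1 = ((10 : ℕ) : ℂ))
    (hA : A = (f : Q → ℂ)) : IsSimpleGroup Q ∧ Nat.card Q = 2520 := by
  have h := hD.core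
  obtain ⟨hintf, hintθ⟩ := exists_int_pair h hS hεf hεθ
  choose a ha using hintf
  choose y hy using hintθ
  have hfc := IsIrrCharacter.isCharacter f.2
  have hθc := IsIrrCharacter.isCharacter θ.2
  have hrelb : ∀ g, ¬ 7 ∣ orderOf g → (X : Q → ℂ) g = ((1 + a g - y g : ℤ) : ℂ) := fun g hg => by
    rw [rel_pair hS hne hεf hεθ hg, ha, hy]; push_cast; ring
  -- the range
  have hrange : ∀ g, ¬ 7 ∣ orderOf g → -2 ≤ y g ∧ y g ≤ 6 ∧ (y g = 6 → a g = 15) ∧ (y g = -2 → a g = -1) ∧
      (1 + a g - y g = 10 → a g = 15) ∧ (y g = 4 → 7 ≤ a g) ∧ -1 ≤ a g := by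
    intro g hg
    have hP := pairs_special hS hg hg
    rw [sum_pair hne, hεf, hεθ, hrelb g hg, ha, hy, hX, hf, hθ, map_intCast, map_intCast, map_intCast] at hP
    have hq : 0 ≤ 30 - 3 * (1 + a g - y g) ^ 2 + 2 * a g ^ 2 - 5 * y g ^ 2 := by
      have key : (((15 * ((pairs g g u + pairs g g (u ^ 3) : ℕ) * (Nat.card (Subgroup.centralizer ({g} : Set Q)) *
          Nat.card (Subgroup.centralizer ({g} : Set Q)))) : ℕ) : ℤ) : ℂ) =
          (((Nat.card Q : ℤ) * (30 - 3 * (1 + a g - y g) ^ 2 + 2 * a g ^ 2 - 5 * y g ^ 2) : ℤ) : ℂ) := by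
        push_cast at hP ⊢
        linear_combination 15 * hP
      have key' := Int.cast_injective key
      have h1 : (0 : ℤ) ≤ (Nat.card Q : ℤ) * (30 - 3 * (1 + a g - y g) ^ 2 + 2 * a g ^ 2 - 5 * y g ^ 2) := by
        rw [← key']; positivity
      exact nonneg_of_mul_nonneg_right h1 (by exact_mod_cast Nat.card_pos)
    obtain ⟨h1, h2⟩ := abs_le_degree hθc hθ (hy g)
    obtain ⟨-, h3⟩ := abs_le_degree hfc hf (ha g)
    have h4 := hD.lower g (a g) (by rw [hA, ha])
    push_cast at h1 h2 h3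
    obtain ⟨r1, r2, r3, r4, r5⟩ := theta_range h4 h3 h1 h2 hq
    exact ⟨r1, h2, r2, r3, r4, r5, h4⟩
  have hfK : ∀ g, a g = 15 → g = 1 := fun g hg => hD.faith g (by rw [hA, ha, hg, hf]; norm_num)
  have h1r := regular_one h
  -- the exterior square
  set Ψ : Q → ℂ := fun g => ((θ : Q → ℂ) g ^ 2 - (θ : Q → ℂ) (g * g)) / 2 with hΨdef
  have hΨ : IsCharacter Q Ψ := ExteriorSquare.isCharacter_extSquare hθc
  have h7 : u ^ 7 = 1 := by rw [← h.ord, pow_orderOf_eq_one]
  have hu2 : IsConj u (u * u) := by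
    have h28 := isConj_pow h.sqr 2
    rw [← pow_mul, show 4 * 2 = 7 + 1 from rfl, pow_add, h7, one_mul, pow_one, sq] at h28
    exact h28.symm
  have hu6 : IsConj (u ^ 3) (u ^ 3 * u ^ 3) := by
    have := isConj_pow hu2 3
    rwa [← sq, ← pow_mul, show 2 * 3 = 3 + 3 from rfl, pow_add] at this
  obtain ⟨-, hθu, hθu3⟩ := hS.memF θ (by simp)
  obtain ⟨-, hfu, -⟩ := hS.memF f (by simp)
  have hΨu : Ψ u + Ψ (u ^ 3) = ((2 : ℕ) : ℂ) := by
    simp only [hΨdef, ← apply_of_isConj hθc hu2, ← apply_of_isConj hθc hu6, hθu, hθu3, hεθ]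
    norm_num
  have hνθ : RealChar.fsIndicator (θ : Q → ℂ) = 1 := by
    have hcount := Correspondences.card_sqrt_eq_sum (G := Q) u
    have hone : (univ.filter fun s : Q => s * s = u) = {u ^ 4} := by
      ext s
      simp only [mem_filter, mem_univ, true_and, mem_singleton]
      constructor
      · intro hs
        obtain ⟨j, rfl⟩ := Subgroup.mem_zpowers_iff.1 (h.cent s (by rw [← hs, mul_assoc]))
        rw [← zpow_add] at hs
        nth_rewrite 2 [← zpow_one u] at hs
        rw [zpow_eq_zpow_iff_modEq, h.ord] at hs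
        rw [← zpow_natCast, zpow_eq_zpow_iff_modEq, h.ord, Int.modEq_iff_dvd]
        rw [Int.modEq_iff_dvd] at hs
        push_cast at hs ⊢
        omega
      · rintro rfl
        rw [← pow_add, show 4 + 4 = 7 + 1 from rfl, pow_add, h7, one_mul, pow_one]
    rw [hone, card_singleton, hS.split _ (fun χ h1 h2 => by rw [h1, mul_zero]), sum_pair hne, hfu, hθu,
      hεf, hεθ, trivIrr_apply] at hcount
    have hνt : RealChar.fsIndicator ((trivIrr Q : IrrCharacter Q) : Q → ℂ) = 1 := by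
      simp only [RealChar.fsIndicator, trivIrr_apply, sum_const, card_univ, ← Nat.card_eq_fintype_card,
        nsmul_eq_mul, mul_one]
      exact inv_mul_cancel₀ (Nat.cast_ne_zero.2 Nat.card_pos.ne')
    have hνX : ∀ Y : IrrCharacter Q, (Y : Q → ℂ) u ≠ (Y : Q → ℂ) (u ^ 3) →
        RealChar.fsIndicator (Y : Q → ℂ) = 0 := fun Y hY => by
      obtain ⟨d, ρ, hirr, hρ⟩ := Y.2
      haveI := hirr
      rw [← hρ]
      refine RealChar.fsIndicator_eq_zero_of_not_real ρ ⟨u, fun him => hY ?_⟩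
      rw [hρ] at him
      have hinv := IsIrrCharacter.inv Y.2 u
      rw [Complex.conj_eq_iff_im.2 him, show u⁻¹ = u ^ 6 from inv_eq_of_mul_eq_one_right (by rw [← pow_succ', h7]),
        show u ^ 6 = u ^ 3 * u ^ 3 from pow_add u 3 3,
        ← apply_of_isConj (IsIrrCharacter.isCharacter Y.2) hu6] at hinv
      exact hinv.symm
    have hνf : RealChar.fsIndicator (f : Q → ℂ) = 1 := by
      obtain ⟨d, ρ, hirr, hρ⟩ := f.2
      haveI := hirr
      rw [← hρ]
      refine RealChar.fsIndicator_eq_one_of_odd ρ (fun g => by rw [hρ, ha]; simp) ?_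
      have : d = 15 := by
        rw [← hρ, Representation.char_one, Module.finrank_fin_fun, Nat.cast_inj] at hf
        exact hf
      rw [this]; decide
    rw [hνt, hνX X hS.diffX, hνX X' hS.diffX', hνf] at hcount
    push_cast at hcount
    linear_combination hcount
  have hΨ0 : classInner Ψ (trivIrr Q : Q → ℂ) = 0 := by
    have hn := classInner_self_of_isIrr θ.2
    rw [RealChar.fsIndicator] at hνθ
    rw [classInner] at hn ⊢
    have hreal : ∀ g, conj ((θ : Q → ℂ) g) = (θ : Q → ℂ) g := fun g => by rw [hy, map_intCast]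
    simp only [hreal] at hn
    simp only [hΨdef, trivIrr_apply, map_one, mul_one, ← sum_div, sum_sub_distrib, sq]
    rw [mul_div_assoc', mul_sub, hn, hνθ, sub_self, zero_div]
  have hext : ∀ g, (θ : Q → ℂ) (g * g) = (θ : Q → ℂ) g ^ 2 - 2 * (f : Q → ℂ) g := by
    obtain ⟨m, hm, hsum⟩ := exists_mult_special hS hΨ
    have h0 : (m (trivIrr Q) : ℂ) = 0 := by
      rw [hm, classInner_sum_irr (fun χ => (m χ : ℂ))] at hΨ0
      exact hΨ0
    rw [hΨu, sum_pair hne, hεf, hεθ, h0] at hsum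
    push_cast at hsum
    have hsum' : (2 : ℤ) = 0 - ((m X : ℤ) + m X') + 2 * ((m f : ℤ) - m θ) := by
      have : ((2 : ℤ) : ℂ) = ((0 - ((m X : ℤ) + m X') + 2 * ((m f : ℤ) - m θ) : ℤ) : ℂ) := by
        push_cast; linear_combination hsum
      exact_mod_cast this
    obtain ⟨-, r, hr, hr0⟩ := exists_sub_isCharacter hm (show m f ≠ 0 by omega)
    have hr' : r = 0 := by
      simp only [hΨdef, mul_one, hθ, hf] at hr
      have : ((15 : ℕ) : ℂ) = ((15 + r : ℕ) : ℂ) := by push_cast; push_cast at hr; linear_combination hr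
      have := Nat.cast_injective this
      omega
    intro g
    have := congrFun (hr0 hr') g
    simp only [hΨdef] at this
    linear_combination -2 * this
  have hext' : ∀ g, y (g * g) = y g ^ 2 - 2 * a g := fun g => by
    have := hext g
    rw [hy, hy, ha] at this
    exact_mod_cast this
  have hy1 : y 1 = 6 := by
    have := hy 1; rw [hθ] at this; exact_mod_cast this.symm
  have hy6 : ∀ g, ¬ 7 ∣ orderOf g → y g = 6 → g = 1 := fun g hg e => hfK g ((hrange g hg).2.2.1 e)
  -- the involutions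
  have hinv : ∀ t : Q, orderOf t = 2 → (y t = 2 ∨ y t = -2) ∧ a t = -1 := fun t ht => by
    have hreg : ¬ 7 ∣ orderOf t := by rw [ht]; norm_num
    obtain ⟨r1, r2, r3, r4, -, r5, r6⟩ := hrange t hreg
    have he := hext' t
    rw [show t * t = 1 by rw [← sq, ← ht, pow_orderOf_eq_one], hy1] at he
    have h6 : y t ≠ 6 := fun e => by
      have := hy6 t hreg e
      rw [this, orderOf_one] at ht
      omega
    generalize y t = yt, a t = xt at *
    interval_cases yt <;> norm_num at he ⊢ <;> omega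
  have hsame : ∀ t t' : Q, orderOf t = 2 → orderOf t' = 2 → y t = y t' := fun t t' ht ht' => by
    have hreg : ∀ s : Q, orderOf s = 2 → ¬ 7 ∣ orderOf s := fun s hs => by rw [hs]; norm_num
    have hP := pairs_special hS (hreg t ht) (hreg t' ht')
    have ht2 : ∀ s : Q, orderOf s = 2 → s ^ 2 = 1 := fun s hs => by rw [← hs, pow_orderOf_eq_one]
    obtain ⟨c1, e1⟩ := hinv t ht
    obtain ⟨c2, e2⟩ := hinv t' ht'
    rw [pairs_seven h (ht2 t ht) (ht2 t' ht') (Or.inl rfl), pairs_seven h (ht2 t ht) (ht2 t' ht') (Or.inr rfl),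
      Nat.cast_zero, zero_mul, eq_comm, mul_eq_zero] at hP
    have h0 := hP.resolve_left (mul_ne_zero two_ne_zero (Nat.cast_ne_zero.2 Nat.card_pos.ne'))
    rw [sum_pair hne, hεf, hεθ, hrelb t (hreg t ht), hrelb t' (hreg t' ht'), ha, ha, hy, hy, hX, hf, hθ,
      map_intCast, map_intCast, map_intCast, e1, e2] at h0
    rcases c1 with c1 | c1 <;> rcases c2 with c2 | c2 <;> rw [c1, c2] at h0 ⊢ <;> norm_num at h0
  -- the two-elements
  have hpar : ∀ j, ∀ g : Q, g ^ 2 ^ j = 1 → (2 : ℤ) ∣ y g := by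
    intro j
    induction j with
    | zero => intro g hg; rw [pow_zero, pow_one] at hg; rw [hg, hy1]; norm_num
    | succ j ih =>
      intro g hg
      have h1 := ih (g * g) (by rw [← sq, ← pow_mul, ← pow_succ']; exact hg)
      rw [hext'] at h1
      have : (2 : ℤ) ∣ y g ^ 2 := by omega
      exact Int.prime_two.dvd_of_dvd_pow this
  have hodd : ∀ (j : ℕ) (g : Q) (k : ℕ), g ^ 2 ^ j = 1 → (θ : Q → ℂ) (g ^ (2 * k + 1)) = (θ : Q → ℂ) g := by
    intro j g k hg
    refine apply_pow_memF h hS (by simp) (fun c hc _ he => ?_) ?_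
    · rcases mem_insert.1 hc with rfl | hc
      · rw [hεf, hεθ] at he; norm_num at he
      · exact mem_singleton.1 hc
    · refine Nat.Coprime.coprime_dvd_right (orderOf_dvd_of_pow_eq_one hg) (Nat.Coprime.pow_right j ?_)
      rw [Nat.coprime_two_right]
      exact odd_two_mul_add_one k
  have hreg2 : ∀ (j : ℕ) (g : Q), g ^ 2 ^ j = 1 → ¬ 7 ∣ orderOf g := fun j g hg hd => by
    have : Nat.Prime 7 := by norm_num
    have := this.dvd_of_dvd_pow (hd.trans (orderOf_dvd_of_pow_eq_one hg))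
    norm_num at this
  have htwo : (∀ t : Q, orderOf t = 2 → y t = -2) → ∀ j, ∀ g : Q, g ^ 2 ^ (j + 1) = 1 → g ≠ 1 →
      (y g = 2 ∨ y g = -2) ∧
        ∑ k ∈ range (2 ^ (j + 1)), (θ : Q → ℂ) (g ^ k) = 2 * (2 : ℂ) ^ (j + 1) := by
    intro hneg j
    induction j with
    | zero =>
      intro g hg hg1
      simp only [zero_add, pow_one] at hg ⊢
      have ho : orderOf g = 2 := orderOf_eq_prime hg hg1
      refine ⟨(hinv g ho).1, ?_⟩
      rw [sum_range_succ, sum_range_one, pow_zero, pow_one, hθ, hy, hneg g ho]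
      norm_num
    | succ j ih =>
      intro g hg hg1
      by_cases hgj : g ^ 2 ^ (j + 1) = 1
      · obtain ⟨i1, i2⟩ := ih g hgj hg1
        refine ⟨i1, ?_⟩
        rw [pow_succ 2 (j + 1), mul_two, sum_range_add, i2,
          sum_congr rfl fun k _ => by rw [pow_add, hgj, one_mul], i2]
        ring
      have hgg : (g * g) ^ 2 ^ (j + 1) = 1 := by rw [← sq, ← pow_mul, ← pow_succ']; exact hg
      have hgg1 : g * g ≠ 1 := fun e => hgj (by
        rw [pow_succ', pow_mul, sq, e, one_pow])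
      obtain ⟨-, i2⟩ := ih (g * g) hgg hgg1
      set M := 2 ^ (j + 1) with hM
      have hM0 : (M : ℂ) ≠ 0 := Nat.cast_ne_zero.2 (by positivity)
      obtain ⟨d, ρ, hρ⟩ := hθc
      obtain ⟨ι, hι, bs, μ, hcard, -, hb, hchar⟩ := exists_eigenbasis ρ g
      have hμ : ∀ i, μ i ^ (2 * M) = 1 := fun i => by
        have hb' := hb (2 * M) i
        rw [hM, ← pow_succ', hg, map_one, Module.End.one_apply] at hb'
        have := smul_left_injective ℂ (bs.ne_zero i) (hb'.symm.trans (one_smul ℂ (bs i)).symm)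
        rwa [hM, ← pow_succ']
      have hμ2 : ∀ i, (μ i ^ 2) ^ M = 1 := fun i => by rw [← pow_mul, hμ]
      rw [show (2 : ℂ) ^ (j + 1) = (M : ℂ) by rw [hM]; norm_num] at i2
      have hs2 : (univ.filter fun i => μ i ^ 2 = 1).card = 2 := by
        have e : ∑ k ∈ range M, (θ : Q → ℂ) ((g * g) ^ k) =
            ((univ.filter fun i => μ i ^ 2 = 1).card : ℂ) * M := by
          simp only [← sq, ← pow_mul, ← hρ, hchar]
          simp only [pow_mul]
          rw [sum_comm, sum_congr rfl fun i _ => Nineteen.geom_sum_root (hμ2 i), ← sum_filter, sum_const,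
            nsmul_eq_mul]
        rw [i2] at e
        exact_mod_cast (mul_right_cancel₀ hM0 e).symm
      have hsum : (θ : Q → ℂ) g = ∑ i ∈ univ.filter (fun i => μ i ^ 2 = 1), μ i := by
        apply mul_left_cancel₀ hM0
        calc (M : ℂ) * (θ : Q → ℂ) g = ∑ k ∈ range M, (θ : Q → ℂ) (g ^ (2 * k + 1)) := by
              rw [sum_congr rfl fun k _ => hodd (j + 1 + 1) g k hg, sum_const, card_range, nsmul_eq_mul]
          _ = ∑ i, ∑ k ∈ range M, (μ i ^ 2) ^ k * μ i := by
              rw [sum_congr rfl fun k _ => show (θ : Q → ℂ) (g ^ (2 * k + 1)) = ∑ i, (μ i ^ 2) ^ k * μ i by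
                rw [← hρ, hchar]; exact sum_congr rfl fun i _ => by rw [pow_succ, pow_mul], sum_comm]
          _ = _ := by
              rw [mul_sum, sum_filter]
              refine sum_congr rfl fun i _ => ?_
              rw [← sum_mul, Nineteen.geom_sum_root (hμ2 i)]
              split_ifs <;> ring
      obtain ⟨i₁, i₂, hi, hs⟩ := card_eq_two.1 hs2
      have hmem : ∀ i, μ i ^ 2 = 1 ↔ i = i₁ ∨ i = i₂ := fun i => by
        have := Finset.ext_iff.1 hs i
        simpa using this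
      rw [hs, sum_pair hi] at hsum
      have hP : ∑ k ∈ range (2 ^ (j + 1 + 1)), (θ : Q → ℂ) (g ^ k) =
          ((univ.filter fun i => μ i = 1).card : ℂ) * (2 : ℂ) ^ (j + 1 + 1) := by
        simp only [← hρ, hchar]
        rw [sum_comm, sum_congr rfl fun i _ => Nineteen.geom_sum_root
          (show μ i ^ 2 ^ (j + 1 + 1) = 1 by rw [pow_succ', ← hM, hμ]), ← sum_filter, sum_const, nsmul_eq_mul]
        push_cast
        ring
      rcases sq_eq_one_iff.1 ((hmem i₁).2 (Or.inl rfl)) with e1 | e1 <;>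
        rcases sq_eq_one_iff.1 ((hmem i₂).2 (Or.inr rfl)) with e2 | e2 <;> rw [e1, e2] at hsum
      · have hyv : y g = 2 := by
          rw [hy] at hsum; norm_num at hsum; exact_mod_cast hsum
        refine ⟨Or.inl hyv, ?_⟩
        rw [hP, show (univ.filter fun i => μ i = 1) = {i₁, i₂} by
          ext i
          simp only [mem_filter, mem_univ, true_and, mem_insert, mem_singleton]
          refine ⟨fun e => (hmem i).1 (by rw [e, one_pow]), ?_⟩
          rintro (rfl | rfl) <;> assumption, card_pair hi]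
        norm_num
      · exfalso
        have hdet := prod_eigen h ρ g bs (fun i => by simpa using hb 1 i)
        have hreal : ∀ k : ℕ, conj (∑ i, μ i ^ k) = ∑ i, μ i ^ k := fun k => by
          rw [← hchar k, hρ, hy, map_intCast]
        have hG := prod_nonreal μ (o := 2 * M) (by positivity) hμ hreal
        rw [← prod_filter_mul_prod_filter_not univ (fun i => μ i ^ 2 = 1), hs, prod_pair hi, e1, e2, hG] at hdet
        norm_num at hdet
      · exfalso
        have hdet := prod_eigen h ρ g bs (fun i => by simpa using hb 1 i)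
        have hreal : ∀ k : ℕ, conj (∑ i, μ i ^ k) = ∑ i, μ i ^ k := fun k => by
          rw [← hchar k, hρ, hy, map_intCast]
        have hG := prod_nonreal μ (o := 2 * M) (by positivity) hμ hreal
        rw [← prod_filter_mul_prod_filter_not univ (fun i => μ i ^ 2 = 1), hs, prod_pair hi, e1, e2, hG] at hdet
        norm_num at hdet
      · exfalso
        have hyv : y g = -2 := by
          rw [hy] at hsum; norm_num at hsum; exact_mod_cast hsum
        have hreg := hreg2 (j + 1 + 1) g hg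
        have ha' := (hrange g hreg).2.2.2.1 hyv
        apply hgg1
        exact hy6 _ (regular_sq hreg) (by rw [hext', hyv, ha']; norm_num)
  -- the bound
  obtain ⟨N, hN⟩ : 7 ∣ Nat.card Q := h.ord ▸ orderOf_dvd_natCard u
  have hb := card_dvd_bound h hθc (m := 6) (by rw [hθ]; norm_num) (Finset.Icc (-2) 5) (fun g hg hg1 => by
    obtain ⟨r1, r2, -⟩ := hrange g hg
    have : y g ≠ 6 := fun e => hg1 (hy6 g hg e)
    exact ⟨y g, mem_Icc.2 ⟨r1, by omega⟩, hy g⟩) hN
  rw [show ∏ l ∈ Finset.Icc (-2 : ℤ) 5, (6 - l) = 40320 by decide] at hb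
  have hN' : N ∣ 40320 := Int.natCast_dvd_natCast.1 (by exact_mod_cast hb)
  have h64 : ¬ 64 ∣ Nat.card Q := fun hd => by
    haveI : Fact (Nat.Prime 2) := ⟨Nat.prime_two⟩
    obtain ⟨S, hS64⟩ := Sylow.exists_subgroup_card_pow_prime 2 (n := 6) (by norm_num; exact hd)
    have hS2 : ∀ g ∈ S, g ^ 2 ^ (5 + 1) = 1 := fun g hg =>
      orderOf_dvd_iff_pow_eq_one.1 ((Subgroup.orderOf_dvd_natCard S hg).trans hS64.dvd)
    by_cases hneg : ∀ t : Q, orderOf t = 2 → y t = -2
    · have := card_dvd_prod S hθc (m := 6) (by rw [hθ]; norm_num) {-2, 2} fun g hg hg1 => by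
        obtain ⟨c, -⟩ := htwo hneg 5 g (hS2 g hg) hg1
        exact ⟨y g, by rcases c with c | c <;> simp [c], hy g⟩
      rw [hS64] at this
      norm_num at this
    · push Not at hneg
      obtain ⟨t, ht, hty⟩ := hneg
      have := card_dvd_prod S hθc (m := 6) (by rw [hθ]; norm_num) {0, 2, 4} fun g hg hg1 => by
        have hreg := hreg2 _ g (hS2 g hg)
        obtain ⟨r1, r2, -, r4, -⟩ := hrange g hreg
        have hpg := hpar _ g (hS2 g hg)
        have h6 : y g ≠ 6 := fun e => hg1 (hy6 g hreg e)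
        have hm2 : y g ≠ -2 := fun e => by
          have h2 := hy6 _ (regular_sq hreg) (by rw [hext', e, r4 e]; norm_num)
          have ho : orderOf g = 2 := orderOf_eq_prime (by rw [sq, h2]) hg1
          exact hty ((hsame t g ht ho).trans e)
        exact ⟨y g, by simp only [mem_insert, mem_singleton]; omega, hy g⟩
      rw [hS64] at this
      norm_num at this
  choose D hDeg hDpos using exists_degree (Q := Q)
  have hmod := sq_dvd_card_sub h hS D hDeg
  rw [sum_pair hne] at hmod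
  have eX : D X = 10 := by have := hDeg X; rw [hX] at this; exact_mod_cast this.symm
  have ef : D f = 15 := by have := hDeg f; rw [hf] at this; exact_mod_cast this.symm
  have eθ : D θ = 6 := by have := hDeg θ; rw [hθ] at this; exact_mod_cast this.symm
  rw [eX, ef, eθ, hN] at hmod
  have h15 : 15 ∣ Nat.card Q := by
    obtain ⟨d, hd, hd1⟩ : ∃ d : ℕ, (f : Q → ℂ) 1 = d ∧ d ∣ Nat.card Q := by
      obtain ⟨d, -, h2, h3⟩ := IsIrrCharacter.exists_degree_dvd f.2
      exact ⟨d, h3, h2⟩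
    rw [hf, Nat.cast_inj] at hd
    rwa [hd]
  have h4 := four_dvd_card h (two_dvd_card hD.char hD.real hD.orth (m := 15) (by rw [hD.deg]; rfl) (by norm_num))
  rw [hN] at h15 h4 h64
  push_cast at hmod
  refine ⟨isSimple_of_faithful h hS fun M hM hu C hC hcon => ?_, ?_⟩
  · refine (Subgroup.eq_bot_iff_forall _).2 fun m hm => ?_
    have hreg := regular_of_mem h hM hu hm
    have hc := hcon m hm
    have hXX : (X : Q → ℂ) m = (X : Q → ℂ) 1 → m = 1 := fun he => by
      rw [hrelb m hreg, hX] at he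
      exact hfK m ((hrange m hreg).2.2.2.2.1 (by exact_mod_cast he))
    rcases hC with rfl | rfl | hC
    · exact hXX hc
    · exact hXX (by rw [← (hS.rel m hreg).1, hc, (hS.rel 1 h1r).1])
    · simp only [mem_insert, mem_singleton] at hC
      rcases hC with rfl | rfl
      · exact hD.faith m (by rw [hA]; exact hc)
      · rw [hy, hθ] at hc
        exact hy6 m hreg (by exact_mod_cast hc)
  · have h60 : 60 ∣ N := by omega
    obtain ⟨k, rfl⟩ := h60
    have hk : k ∣ 672 := Nat.dvd_of_mul_dvd_mul_left (k := 60) (by norm_num) hN'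
    have hall : ∀ k ∈ Nat.divisors 672, ¬ 16 ∣ k → k % 7 = 6 → k = 6 := by decide
    have := hall k (Nat.mem_divisors.2 ⟨hk, by norm_num⟩) (by omega) (by omega)
    rw [hN, this]

/-- The group is simple of order `168` or `2520`. -/
theorem seven {Q : Type*} [Group Q] [Fintype Q] {u : Q} {A : Q → ℂ} (hD : Data 7 3 u A) :
    IsSimpleGroup Q ∧ (Nat.card Q = 168 ∨ Nat.card Q = 2520) := by
  haveI := Fintype.ofFinite (IrrCharacter Q)
  obtain ⟨X, X', f, θ, ε, hS, hne, hεf, hεθ, hθ, hsub, hdeg⟩ := exists_shape7 hD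
  rcases hdeg with ⟨hf, hX, hA⟩ | ⟨hf, hX⟩
  · obtain ⟨h1, h2⟩ := seven_large hD hS hne hεf hεθ hθ hf hX hA
    exact ⟨h1, Or.inr h2⟩
  · obtain ⟨h1, h2⟩ := seven_small hD hS hne hεf hεθ hθ hsub hf hX
    exact ⟨h1, Or.inl h2⟩

end CfsgLib.OrderDegrees.SmallChar
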