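import Cfsg.Agent.Lib.CharTheory.Values
import Cfsg.Agent.Lib.CharTheory.Orthogonality
import Cfsg.Agent.Lib.CharTheory.Degree
import Cfsg.Agent.Lib.CharTheory.Inflation
import Cfsg.Agent.Lib.BrauerCharacters.ClassMul
import Cfsg.Agent.Lib.OrderDegrees.NineteenTools
import Cfsg.Agent.Lib.Coherence.RationalValue
import Cfsg.Agent.Lib.ZerosCodegree.PowerTwist
import Mathlib.RingTheory.ZMod.UnitsCyclic
import Mathlib.Tactic

/-!
# The primes `5` and `7` with a self-centralising subgroup of inertial index `(p - 1) / 2`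

The sums and differences of the values on the two classes of elements of order `p` are given by
integers, and column orthogonality determines the characters not vanishing there.
-/

set_option autoImplicit false
set_option linter.unusedSectionVars false
set_option linter.style.haveILetI false

namespace CfsgLib.OrderDegrees.SmallChar

open Cfsg CfsgLib.CharTheory Finset
open scoped ComplexConjugate Classical

/-- A self-centralising element `u` of order `p`, conjugate to `u ^ 4` and not to `u ^ n`. -/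
structure Core {Q : Type*} [Group Q] (p n : ℕ) (u : Q) : Prop where
  cases : (p = 5 ∧ n = 2) ∨ (p = 7 ∧ n = 3)
  ord : orderOf u = p
  cent : ∀ g : Q, g * u = u * g → g ∈ Subgroup.zpowers u
  sq : ¬ p ^ 2 ∣ Nat.card Q
  sqr : IsConj u (u ^ 4)
  nconj : ¬ IsConj u (u ^ n)
  gen : ∀ N : Subgroup Q, N.Normal → u ∈ N → N = ⊤

variable {Q : Type*} [Group Q] [Fintype Q] {p n : ℕ} {u : Q}

theorem isConj_pow {x y : Q} (h : IsConj x y) (k : ℕ) : IsConj (x ^ k) (y ^ k) := by
  obtain ⟨c, rfl⟩ := isConj_iff.1 h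
  exact isConj_iff.2 ⟨c, conj_pow.symm⟩

theorem apply_of_isConj {χ : Q → ℂ} (hχ : IsCharacter Q χ) {x y : Q} (h : IsConj x y) : χ x = χ y := by
  obtain ⟨m, ρ, rfl⟩ := hχ
  obtain ⟨c, rfl⟩ := isConj_iff.1 h
  exact (ρ.char_conj x c).symm

theorem centralizer_eq (h : Core p n u) : Subgroup.centralizer ({u} : Set Q) = Subgroup.zpowers u := by
  refine le_antisymm (fun g hg => h.cent g (Subgroup.mem_centralizer_singleton_iff.1 hg)) ?_
  exact Subgroup.zpowers_le.2 (Subgroup.mem_centralizer_singleton_iff.2 rfl)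

theorem card_centralizer (h : Core p n u) :
    Nat.card (Subgroup.centralizer ({u} : Set Q)) = p := by
  rw [centralizer_eq h, Nat.card_zpowers, h.ord]

theorem card_centralizer_pow (h : Core p n u) :
    Nat.card (Subgroup.centralizer ({u ^ n} : Set Q)) = p := by
  rw [← card_centralizer h]
  congr 2
  ext g
  simp only [Subgroup.mem_centralizer_singleton_iff]
  refine ⟨fun hg => ?_, fun hg => ((show Commute g u from hg).pow_right n).eq⟩
  obtain ⟨k, hk⟩ : ∃ k, (u ^ n) ^ k = u := by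
    rcases h.cases with ⟨hp, hn⟩ | ⟨hp, hn⟩
    · exact ⟨3, by rw [hn, ← pow_mul, ← pow_mod_orderOf, h.ord, hp, pow_one]⟩
    · exact ⟨5, by rw [hn, ← pow_mul, ← pow_mod_orderOf, h.ord, hp, pow_one]⟩
  rw [← hk]
  exact ((show Commute g (u ^ n) from hg).pow_right k).eq

theorem prime (h : Core p n u) : p.Prime := by
  rcases h.cases with ⟨hp, -⟩ | ⟨hp, -⟩ <;> rw [hp] <;> norm_num

theorem u_ne_one (h : Core p n u) : u ≠ 1 := fun e => by
  have := h.ord
  rw [e, orderOf_one] at this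
  exact (prime h).ne_one this.symm

theorem not_isConj_of_regular (h : Core p n u) {g : Q} (hg : ¬ p ∣ orderOf g) :
    ¬ IsConj g u ∧ ¬ IsConj g (u ^ n) := by
  have ho : ∀ y : Q, orderOf y = p → ¬ IsConj g y := fun y hy hc => by
    obtain ⟨c, rfl⟩ := isConj_iff.1 hc
    rw [show orderOf (c * g * c⁻¹) = orderOf g from
      orderOf_injective (MulAut.conj c).toMonoidHom (MulAut.conj c).injective g] at hy
    exact hg hy.symm.dvd
  refine ⟨ho u h.ord, ho _ ?_⟩
  rcases h.cases with ⟨hp, hn⟩ | ⟨hp, hn⟩ <;>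
    rw [hn, Nat.Coprime.orderOf_pow (by rw [h.ord, hp]; norm_num), h.ord]

theorem regular_one (h : Core p n u) : ¬ p ∣ orderOf (1 : Q) := by
  rw [orderOf_one]; exact (prime h).not_dvd_one

/-- The inertial index. -/
def idx (p : ℕ) : ℕ := (p - 1) / 2

theorem sum_powers_of (hcases : (p = 5 ∧ n = 2) ∨ (p = 7 ∧ n = 3)) (hord : orderOf u = p)
    (hsqr : IsConj u (u ^ 4)) {χ : Q → ℂ} (hχ : IsCharacter Q χ) :
    ∑ k ∈ range p, χ (u ^ k) = χ 1 + (idx p : ℂ) * (χ u + χ (u ^ n)) := by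
  have hc := hsqr
  rcases hcases with ⟨rfl, rfl⟩ | ⟨rfl, rfl⟩
  · have h5 : u ^ 5 = 1 := by rw [← hord, pow_orderOf_eq_one]
    have h3 : χ (u ^ 3) = χ (u ^ 2) := by
      have := apply_of_isConj hχ (isConj_pow hc 2)
      rw [← pow_mul, show 4 * 2 = 5 + 3 from rfl, pow_add, h5, one_mul] at this
      exact this.symm
    simp only [sum_range_succ, sum_range_zero, idx, pow_zero, pow_one, h3,
      ← apply_of_isConj hχ hc]
    push_cast
    ring
  · have h7 : u ^ 7 = 1 := by rw [← hord, pow_orderOf_eq_one]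
    have h2 : χ (u ^ 2) = χ (u ^ 4) := by
      have := apply_of_isConj hχ (isConj_pow hc 4)
      rw [← pow_mul, show 4 * 4 = 7 + (7 + 2) from rfl, pow_add, pow_add, h7, one_mul, one_mul] at this
      exact this.symm
    have h5 : χ (u ^ 5) = χ (u ^ 3) := by
      have := apply_of_isConj hχ (isConj_pow hc 3)
      rw [← pow_mul, show 4 * 3 = 7 + 5 from rfl, pow_add, h7, one_mul] at this
      exact this.symm
    have h6 : χ (u ^ 6) = χ (u ^ 3) := by
      have := apply_of_isConj hχ (isConj_pow hc 5)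
      rw [← pow_mul, show 4 * 5 = 7 + (7 + 6) from rfl, pow_add, pow_add, h7, one_mul, one_mul] at this
      rw [← this, h5]
    simp only [sum_range_succ, sum_range_zero, idx, pow_zero, pow_one, h2, h5, h6,
      ← apply_of_isConj hχ hc]
    push_cast
    ring

theorem sum_powers (h : Core p n u) {χ : Q → ℂ} (hχ : IsCharacter Q χ) :
    ∑ k ∈ range p, χ (u ^ k) = χ 1 + (idx p : ℂ) * (χ u + χ (u ^ n)) :=
  sum_powers_of h.cases h.ord h.sqr hχ

/-- The sum of the values on the two classes. -/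
theorem exists_sumVal (h : Core p n u) {χ : Q → ℂ} (hχ : IsCharacter Q χ) :
    ∃ a : ℤ, χ u + χ (u ^ n) = a := by
  obtain ⟨m, ρ, hρ⟩ := hχ
  obtain ⟨ι, hι, b, μ, -, hμ, -, hchar⟩ := exists_eigenbasis ρ u
  rw [h.ord] at hμ
  set c := (univ.filter fun i => μ i = 1).card with hc
  have hsum : ∑ k ∈ range p, χ (u ^ k) = (p : ℂ) * c := by
    rw [← hρ, sum_congr rfl fun k _ => hchar k, sum_comm,
      sum_congr rfl fun i _ => Nineteen.geom_sum_root (hμ i), ← sum_filter, sum_const, nsmul_eq_mul,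
      mul_comm]
  rw [sum_powers h ⟨m, ρ, hρ⟩] at hsum
  have he : (idx p : ℂ) ≠ 0 := by
    rcases h.cases with ⟨rfl, -⟩ | ⟨rfl, -⟩ <;> norm_num [idx]
  have h1 : χ 1 = (m : ℂ) := by rw [← hρ, Representation.char_one, Module.finrank_fin_fun]
  have hq : χ u + χ (u ^ n) = ((((p : ℚ) * c - m) / (idx p : ℚ) : ℚ) : ℂ) := by
    push_cast
    rw [eq_div_iff he, ← hsum, h1]
    ring
  have hint : IsIntegral ℤ (χ u + χ (u ^ n)) :=
    (IsCharacter.isIntegral ⟨m, ρ, hρ⟩ u).add (IsCharacter.isIntegral ⟨m, ρ, hρ⟩ _)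
  rw [hq] at hint
  obtain ⟨z, hz⟩ := exists_int_of_isIntegral_ratCast hint
  exact ⟨z, by rw [hq, ← hz, Rat.cast_intCast]⟩

/-- The square of the difference of the Gaussian periods. -/
def disc (p : ℕ) : ℤ := if p = 5 then 5 else -7

theorem exists_root (h : Core p n u) :
    ∃ w : ℂ, w ^ 2 = disc p ∧ w * conj w = p ∧ w ≠ 0 := by
  obtain ⟨w, hw⟩ := IsAlgClosed.exists_pow_nat_eq ((disc p : ℤ) : ℂ) two_pos
  have hn : ‖w‖ ^ 2 = p := by
    rw [← norm_pow, hw]
    rcases h.cases with ⟨rfl, -⟩ | ⟨rfl, -⟩ <;> norm_num [disc]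
  refine ⟨w, hw, by rw [Complex.mul_conj', ← Complex.ofReal_pow, hn]; norm_num, fun h0 => ?_⟩
  rw [h0, norm_zero] at hn
  have := (prime h).pos
  have : (p : ℝ) = 0 := by rw [← hn]; norm_num
  exact absurd this (by positivity)

/-- The difference of the values on the two classes. -/
theorem exists_diffVal (h : Core p n u) {w : ℂ} (hw : w ^ 2 = disc p) (hww : w * conj w = p)
    {χ : Q → ℂ} (hχ : IsCharacter Q χ) : ∃ s : ℤ, χ u - χ (u ^ n) = s * w := by
  obtain ⟨m, ρ, hρ⟩ := hχ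
  obtain ⟨ι, hι, b, μ, -, hμ, -, hchar⟩ := exists_eigenbasis ρ u
  have hc := h.sqr
  have hu : χ u = ∑ i, μ i := by rw [← hρ]; simpa using hchar 1
  have hk : ∀ k, χ (u ^ k) = ∑ i, μ i ^ k := fun k => by rw [← hρ]; exact hchar k
  have key : ∃ g : ι → ℂ, (∀ i, g i ^ 2 = disc p ∨ g i = 0) ∧
      (idx p : ℂ) * (χ u - χ (u ^ n)) = ∑ i, g i := by
    rw [h.ord] at hμ
    rcases h.cases with ⟨rfl, rfl⟩ | ⟨rfl, rfl⟩
    · refine ⟨fun i => μ i + μ i ^ 4 - μ i ^ 2 - μ i ^ 3, fun i => ?_, ?_⟩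
      · by_cases h1 : μ i = 1
        · right; simp only [h1]; norm_num
        · left
          have hs := Nineteen.geom_sum_root (hμ i)
          rw [if_neg h1] at hs
          simp only [sum_range_succ, sum_range_zero] at hs
          simp only [disc, if_pos]
          push_cast
          linear_combination (-1 : ℂ) * hs + (μ i ^ 3 - 2 * μ i ^ 2 - μ i + 4) * hμ i
      · have h4 : χ (u ^ 4) = χ u := (apply_of_isConj ⟨m, ρ, hρ⟩ hc).symm
        have h3 : χ (u ^ 3) = χ (u ^ 2) := by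
          have := apply_of_isConj ⟨m, ρ, hρ⟩ (isConj_pow hc 2)
          rw [← pow_mul, show 4 * 2 = 5 + 3 from rfl, pow_add,
            show u ^ 5 = 1 by rw [← h.ord, pow_orderOf_eq_one], one_mul] at this
          exact this.symm
        simp only [sum_sub_distrib, sum_add_distrib, ← hk, ← hu, h3, h4, idx]
        push_cast
        ring
    · refine ⟨fun i => μ i + μ i ^ 2 + μ i ^ 4 - μ i ^ 3 - μ i ^ 5 - μ i ^ 6, fun i => ?_, ?_⟩
      · by_cases h1 : μ i = 1
        · right; simp only [h1]; norm_num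
        · left
          have hs := Nineteen.geom_sum_root (hμ i)
          rw [if_neg h1] at hs
          simp only [sum_range_succ, sum_range_zero] at hs
          simp only [disc, if_neg (show (7 : ℕ) ≠ 5 by norm_num)]
          push_cast
          linear_combination (1 : ℂ) * hs +
            (μ i ^ 5 + 2 * μ i ^ 4 - μ i ^ 3 + μ i - 6) * hμ i
      · have h7 : u ^ 7 = 1 := by rw [← h.ord, pow_orderOf_eq_one]
        have h4 : χ (u ^ 4) = χ u := (apply_of_isConj ⟨m, ρ, hρ⟩ hc).symm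
        have h2 : χ (u ^ 2) = χ (u ^ 4) := by
          have := apply_of_isConj ⟨m, ρ, hρ⟩ (isConj_pow hc 4)
          rw [← pow_mul, show 4 * 4 = 7 + (7 + 2) from rfl, pow_add, pow_add, h7, one_mul, one_mul] at this
          exact this.symm
        have h5 : χ (u ^ 5) = χ (u ^ 3) := by
          have := apply_of_isConj ⟨m, ρ, hρ⟩ (isConj_pow hc 3)
          rw [← pow_mul, show 4 * 3 = 7 + 5 from rfl, pow_add, h7, one_mul] at this
          exact this.symm
        have h6 : χ (u ^ 6) = χ (u ^ 5) := by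
          have := apply_of_isConj ⟨m, ρ, hρ⟩ (isConj_pow hc 5)
          rw [← pow_mul, show 4 * 5 = 7 + (7 + 6) from rfl, pow_add, pow_add, h7, one_mul, one_mul] at this
          exact this.symm
        simp only [sum_sub_distrib, sum_add_distrib, ← hk, ← hu, h2, h4, h5, h6, idx]
        push_cast
        ring
  obtain ⟨g, hg, hsum⟩ := key
  have hgw : ∀ i, ∃ z : ℤ, g i = z * w := fun i => by
    rcases hg i with h1 | h1
    · rcases sq_eq_sq_iff_eq_or_eq_neg.1 (h1.trans hw.symm) with h2 | h2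
      · exact ⟨1, by simp [h2]⟩
      · exact ⟨-1, by simp [h2]⟩
    · exact ⟨0, by simp [h1]⟩
  choose z hz using hgw
  set N : ℤ := ∑ i, z i with hN
  have hsum' : (idx p : ℂ) * (χ u - χ (u ^ n)) = (N : ℂ) * w := by
    rw [hsum, hN, Int.cast_sum, sum_mul]
    exact sum_congr rfl fun i _ => hz i
  set x := χ u - χ (u ^ n) with hx
  have he : (idx p : ℂ) ≠ 0 := by
    rcases h.cases with ⟨rfl, -⟩ | ⟨rfl, -⟩ <;> norm_num [idx]
  have hint : IsIntegral ℤ (x ^ 2) :=
    ((IsCharacter.isIntegral ⟨m, ρ, hρ⟩ u).sub (IsCharacter.isIntegral ⟨m, ρ, hρ⟩ _)).pow 2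
  have hq : x ^ 2 = ((((N : ℚ) ^ 2 * (disc p : ℚ)) / (idx p : ℚ) ^ 2 : ℚ) : ℂ) := by
    push_cast
    rw [eq_div_iff (pow_ne_zero _ he), ← hw]
    linear_combination ((idx p : ℂ) * x + (N : ℂ) * w) * hsum'
  rw [hq] at hint
  obtain ⟨t, ht⟩ := exists_int_of_isIntegral_ratCast hint
  have hne : ((idx p : ℕ) : ℚ) ≠ 0 := by exact_mod_cast he
  have heq : N ^ 2 * disc p = t * (idx p : ℤ) ^ 2 := by
    rw [eq_div_iff (pow_ne_zero _ hne)] at ht
    exact_mod_cast ht.symm
  have hdvd : (idx p : ℤ) ∣ N := by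
    rcases h.cases with ⟨rfl, -⟩ | ⟨rfl, -⟩ <;> simp only [idx, disc] at heq ⊢ <;> norm_num at heq ⊢
    · have h2 : (2 : ℤ) ∣ N ^ 2 * 5 := ⟨2 * t, by rw [heq]; ring⟩
      exact (Int.prime_two.dvd_of_dvd_pow ((Int.prime_two.dvd_or_dvd h2).resolve_right (by norm_num)))
    · have h3 : (3 : ℤ) ∣ N ^ 2 * 7 := ⟨-(3 * t), by linarith⟩
      exact (Int.prime_three.dvd_of_dvd_pow ((Int.prime_three.dvd_or_dvd h3).resolve_right (by norm_num)))
  obtain ⟨s, hs⟩ := hdvd
  refine ⟨s, mul_left_cancel₀ he ?_⟩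
  rw [hsum', hs]
  push_cast
  ring

/-- The orthogonality relations in the two integers. -/
theorem sums (h : Core p n u) [Fintype (IrrCharacter Q)] {w : ℂ} (hww : w * conj w = p) (hw0 : w ≠ 0)
    {a s : IrrCharacter Q → ℤ} (ha : ∀ χ : IrrCharacter Q, (χ : Q → ℂ) u + (χ : Q → ℂ) (u ^ n) = a χ)
    (hs : ∀ χ : IrrCharacter Q, (χ : Q → ℂ) u - (χ : Q → ℂ) (u ^ n) = s χ * w) :
    ∑ χ, a χ * a χ = 2 * p ∧ ∑ χ, s χ * s χ = 2 ∧ (∑ χ, a χ * s χ) = 0 ∧
      ∀ g, ¬ p ∣ orderOf g →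
        (∑ χ : IrrCharacter Q, (χ : Q → ℂ) g * (a χ : ℂ)) = 0 ∧ (∑ χ : IrrCharacter Q, (χ : Q → ℂ) g * (s χ : ℂ)) = 0 := by
  have hnc : ¬ IsConj (u ^ n) u := fun hc => h.nconj hc.symm
  have hcw : conj w ≠ 0 := (map_ne_zero _).2 hw0
  have e11 := sum_mul_conj u u
  have e22 := sum_mul_conj (u ^ n) (u ^ n)
  have e12 := sum_mul_conj u (u ^ n)
  have e21 := sum_mul_conj (u ^ n) u
  rw [if_pos (IsConj.refl _), card_centralizer h] at e11
  rw [if_pos (IsConj.refl _), card_centralizer_pow h] at e22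
  rw [if_neg h.nconj] at e12
  rw [if_neg hnc] at e21
  refine ⟨?_, ?_, ?_, fun g hg => ⟨?_, ?_⟩⟩
  · apply Int.cast_injective (α := ℂ)
    push_cast
    rw [sum_congr rfl fun (χ : IrrCharacter Q) _ => show (a χ : ℂ) * a χ =
      (χ : Q → ℂ) u * conj ((χ : Q → ℂ) u) + (χ : Q → ℂ) (u ^ n) * conj ((χ : Q → ℂ) (u ^ n)) +
        (χ : Q → ℂ) u * conj ((χ : Q → ℂ) (u ^ n)) + (χ : Q → ℂ) (u ^ n) * conj ((χ : Q → ℂ) u) by
      have : conj ((χ : Q → ℂ) u + (χ : Q → ℂ) (u ^ n)) = (a χ : ℂ) := by rw [ha, map_intCast]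
      nth_rewrite 1 [← ha χ]
      rw [← this, map_add]; ring]
    simp only [sum_add_distrib, e11, e22, e12, e21]
    ring
  · apply Int.cast_injective (α := ℂ)
    push_cast
    have hp0 : (p : ℂ) ≠ 0 := Nat.cast_ne_zero.2 (prime h).ne_zero
    apply mul_right_cancel₀ hp0
    rw [sum_mul, sum_congr rfl fun (χ : IrrCharacter Q) _ => show (s χ : ℂ) * s χ * p =
      (χ : Q → ℂ) u * conj ((χ : Q → ℂ) u) + (χ : Q → ℂ) (u ^ n) * conj ((χ : Q → ℂ) (u ^ n)) -
        (χ : Q → ℂ) u * conj ((χ : Q → ℂ) (u ^ n)) - (χ : Q → ℂ) (u ^ n) * conj ((χ : Q → ℂ) u) by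
      have : conj ((χ : Q → ℂ) u - (χ : Q → ℂ) (u ^ n)) = (s χ : ℂ) * conj w := by
        rw [hs, map_mul, map_intCast]
      rw [← hww, show (s χ : ℂ) * s χ * (w * conj w) = ((s χ : ℂ) * w) * ((s χ : ℂ) * conj w) by ring,
        ← this, ← hs, map_sub]
      ring]
    simp only [sum_sub_distrib, sum_add_distrib, e11, e22, e12, e21]
    ring
  · apply Int.cast_injective (α := ℂ)
    push_cast
    apply mul_right_cancel₀ hcw
    rw [sum_mul, sum_congr rfl fun (χ : IrrCharacter Q) _ => show (a χ : ℂ) * s χ * conj w =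
      (χ : Q → ℂ) u * conj ((χ : Q → ℂ) u) - (χ : Q → ℂ) (u ^ n) * conj ((χ : Q → ℂ) (u ^ n)) -
        (χ : Q → ℂ) u * conj ((χ : Q → ℂ) (u ^ n)) + (χ : Q → ℂ) (u ^ n) * conj ((χ : Q → ℂ) u) by
      have : conj ((χ : Q → ℂ) u - (χ : Q → ℂ) (u ^ n)) = (s χ : ℂ) * conj w := by
        rw [hs, map_mul, map_intCast]
      rw [mul_assoc, ← this, ← ha, map_sub]
      ring]
    simp only [sum_sub_distrib, sum_add_distrib, e11, e22, e12, e21]
    ring
  · have g1 := sum_mul_conj g u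
    have g2 := sum_mul_conj g (u ^ n)
    rw [if_neg (not_isConj_of_regular h hg).1] at g1
    rw [if_neg (not_isConj_of_regular h hg).2] at g2
    rw [sum_congr rfl fun (χ : IrrCharacter Q) _ => show (χ : Q → ℂ) g * (a χ : ℂ) =
      (χ : Q → ℂ) g * conj ((χ : Q → ℂ) u) + (χ : Q → ℂ) g * conj ((χ : Q → ℂ) (u ^ n)) by
      rw [← mul_add, ← map_add, ha, map_intCast], sum_add_distrib, g1, g2, add_zero]
  · have g1 := sum_mul_conj g u
    have g2 := sum_mul_conj g (u ^ n)
    rw [if_neg (not_isConj_of_regular h hg).1] at g1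
    rw [if_neg (not_isConj_of_regular h hg).2] at g2
    apply mul_right_cancel₀ hcw
    rw [sum_mul, sum_congr rfl fun (χ : IrrCharacter Q) _ => show (χ : Q → ℂ) g * (s χ : ℂ) * conj w =
      (χ : Q → ℂ) g * conj ((χ : Q → ℂ) u) - (χ : Q → ℂ) g * conj ((χ : Q → ℂ) (u ^ n)) by
      rw [← mul_sub, ← map_sub, hs, map_mul, map_intCast, mul_assoc], sum_sub_distrib, g1, g2,
      sub_zero, zero_mul]

/-- A power map coprime to the order with prescribed effect on one element. -/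
theorem exists_coprime_pow (g : Q) {t : ℕ} (ht : t.Coprime (orderOf g)) :
    ∃ k : ℕ, k.Coprime (Nat.card Q) ∧ g ^ k = g ^ t := by
  haveI : NeZero (Nat.card Q) := ⟨Nat.card_pos.ne'⟩
  obtain ⟨z, hz⟩ := ZMod.unitsMap_surjective (orderOf_dvd_natCard g) (ZMod.unitOfCoprime t ht)
  refine ⟨(z : ZMod (Nat.card Q)).val, ZMod.val_coe_unit_coprime z, pow_eq_pow_iff_modEq.2 ?_⟩
  rw [← ZMod.natCast_eq_natCast_iff, ← ZMod.coe_unitOfCoprime t ht, ← hz, ZMod.unitsMap_val,
    ZMod.natCast_val]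

/-- A Blichfeldt bound. -/
theorem card_dvd_prod (S : Subgroup Q) {χ : Q → ℂ} (hχ : IsCharacter Q χ) {m : ℤ} (h1 : χ 1 = m)
    (L : Finset ℤ) (hL : ∀ g ∈ S, g ≠ 1 → ∃ l ∈ L, χ g = (l : ℂ)) :
    (Nat.card S : ℤ) ∣ ∏ l ∈ L, (m - l) := by
  haveI := Fintype.ofFinite S
  obtain ⟨d, ρ, hρ⟩ := hχ
  have hres : IsCharacter S (fun g : S => χ g) :=
    ⟨d, ρ.comp S.subtype, funext fun k => congrFun hρ k⟩
  let f : Finset ℤ → S → ℂ := fun L g => ∏ l ∈ L, (χ g - (l : ℂ))
  have hpow : ∀ j : ℕ, ∃ z : ℤ, ∑ g : S, χ g ^ j = (Nat.card S : ℂ) * z := by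
    intro j
    have hchar : IsCharacter S (fun g : S => χ g ^ j) := by
      induction j with
      | zero =>
        simp only [pow_zero]
        exact IsIrrCharacter.isCharacter (trivIrr S).2
      | succ j ih =>
        have := isCharacter_mul ih hres
        convert this using 1
        funext g
        rw [Pi.mul_apply, pow_succ]
    obtain ⟨c, hc⟩ := IsCharacter.exists_classInner_eq_nat hchar (trivIrr S)
    refine ⟨c, ?_⟩
    rw [classInner] at hc
    simp only [trivIrr_apply, map_one, mul_one] at hc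
    push_cast
    rw [← hc, mul_inv_cancel_left₀ (Nat.cast_ne_zero.2 Nat.card_pos.ne')]
  let P : Polynomial ℤ := ∏ l ∈ L, (Polynomial.X - Polynomial.C l)
  have hev : ∀ x : ℂ, Polynomial.aeval x P = ∏ l ∈ L, (x - (l : ℂ)) := fun x => by
    simp [P, map_prod]
  choose z hz using hpow
  have hsum : ∑ g : S, Polynomial.aeval (χ g) P =
      (Nat.card S : ℂ) * ((∑ j ∈ range (P.natDegree + 1), P.coeff j * z j : ℤ) : ℂ) := by
    simp only [Polynomial.aeval_eq_sum_range, zsmul_eq_mul]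
    rw [sum_comm]
    push_cast
    rw [mul_sum]
    refine sum_congr rfl fun j _ => ?_
    rw [← mul_sum, hz]
    ring
  rw [sum_eq_single (1 : S) (fun g _ hg => ?_) (fun h' => absurd (mem_univ _) h'), hev] at hsum
  · rw [OneMemClass.coe_one, h1] at hsum
    exact ⟨_, by exact_mod_cast hsum⟩
  · rw [hev]
    obtain ⟨l, hl, hgl⟩ := hL g g.2 fun e => hg (Subtype.ext e)
    exact prod_eq_zero hl (by rw [hgl, sub_self])

/-- The number of factorisations through two classes. -/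
noncomputable def pairs (a b y : Q) : ℕ :=
  (univ.filter fun x => IsConj a x ∧ IsConj b (x * y)).card

theorem pairs_eq [Fintype (IrrCharacter Q)] (a b y : Q) :
    (pairs a b y : ℂ) * (Nat.card (Subgroup.centralizer ({a} : Set Q)) *
        Nat.card (Subgroup.centralizer ({b} : Set Q))) =
      (Nat.card Q : ℂ) * ∑ χ : IrrCharacter Q,
        (χ : Q → ℂ) a * conj ((χ : Q → ℂ) b) * (χ : Q → ℂ) y / (χ : Q → ℂ) 1 := by
  have h := CfsgLib.BrauerCharacters.sum_weight_pairs a b (fun v : Q => if v = y then (1 : ℂ) else 0)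
  simp only [ite_mul, one_mul, zero_mul, sum_ite_eq', mem_univ, if_true] at h
  have hG : (Nat.card Q : ℂ) ≠ 0 := Nat.cast_ne_zero.2 Nat.card_pos.ne'
  have hia : ((Subgroup.centralizer ({a} : Set Q)).index : ℂ) *
      Nat.card (Subgroup.centralizer ({a} : Set Q)) = Nat.card Q := by
    exact_mod_cast Subgroup.index_mul_card _
  have hib : ((Subgroup.centralizer ({b} : Set Q)).index : ℂ) *
      Nat.card (Subgroup.centralizer ({b} : Set Q)) = Nat.card Q := by
    exact_mod_cast Subgroup.index_mul_card _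
  have h' : (pairs a b y : ℂ) = ((Subgroup.centralizer ({b} : Set Q)).index : ℂ) / (Nat.card Q : ℂ) *
      ∑ χ : IrrCharacter Q, centralChar (χ : Q → ℂ) a * conj ((χ : Q → ℂ) b) * (χ : Q → ℂ) y := by
    rw [pairs]; convert h using 4
  rw [h']
  rw [mul_sum, sum_mul, mul_sum]
  refine sum_congr rfl fun χ _ => ?_
  rw [centralChar]
  have h10 := apply_one_ne_zero_of_isIrr χ.2
  field_simp
  linear_combination (χ : Q → ℂ) a * conj ((χ : Q → ℂ) b) * (χ : Q → ℂ) y *
    ((Nat.card (Subgroup.centralizer ({a} : Set Q)) : ℂ) *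
        (Subgroup.centralizer ({a} : Set Q)).index * hib +
      (Nat.card Q : ℂ) * hia)

end CfsgLib.OrderDegrees.SmallChar
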