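import Cfsg.Agent.Lib.OrderDegrees.SmallChar.Special
import Mathlib.GroupTheory.PGroup

/-!
# The auxiliary character and first consequences
-/

set_option autoImplicit false
set_option linter.unusedSectionVars false
set_option linter.style.haveILetI false

namespace CfsgLib.OrderDegrees.SmallChar

open Cfsg CfsgLib.CharTheory Finset
open scoped ComplexConjugate Classical

/-- The hypotheses on the auxiliary character `A`, the reduced square of a character of degree
`idx p + 1`. -/
structure Data {Q : Type*} [Group Q] (p n : ℕ) (u : Q) (A : Q → ℂ) : Prop where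
  core : Core p n u
  char : IsCharacter Q A
  deg : A 1 = (((idx p + 1) ^ 2 - 1 : ℕ) : ℂ)
  orth : ¬ IsCharacter Q (A - (trivIrr Q : Q → ℂ))
  sumA : A u + A (u ^ n) = ((idx p - 1 : ℕ) : ℂ)
  real : ∀ g : Q, conj (A g) = A g
  lower : ∀ g : Q, ∀ a : ℤ, A g = a → -1 ≤ a
  faith : ∀ g : Q, A g = A 1 → g = 1
  fixed : ∀ N : Subgroup Q, N.Normal → ∀ F : Q → ℂ, IsCharacter Q F → IsCharacter Q (A - F) →
    (∀ x ∈ N, F x = F 1) → ∀ r : ℕ, F 1 = r → (idx p - 1) ^ 2 + 1 ≤ r → N = ⊥

variable {Q : Type*} [Group Q] [Fintype Q] {p n : ℕ} {u : Q}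

theorem four_mem (h : Core p n u) : u ^ 3 ∈ commutator Q := by
  obtain ⟨c, hc⟩ := isConj_iff.1 h.sqr
  have : c * u * c⁻¹ * u⁻¹ ∈ commutator Q := by
    rw [commutator_def]
    exact Subgroup.commutator_mem_commutator (Subgroup.mem_top c) (Subgroup.mem_top u)
  rwa [hc, show u ^ 4 * u⁻¹ = u ^ 3 by group] at this

theorem perfect (h : Core p n u) : commutator Q = ⊤ := by
  refine h.gen _ inferInstance ?_
  have h3 := four_mem h
  have hu : u = (u ^ 3) ^ (if p = 5 then 2 else 5) := by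
    rw [← pow_mul]
    nth_rewrite 1 [← pow_one u]
    rw [pow_eq_pow_iff_modEq, h.ord]
    rcases h.cases with ⟨hp, -⟩ | ⟨hp, -⟩ <;> rw [hp] <;> decide
  rw [hu]
  exact pow_mem h3 _

theorem four_dvd_card (h : Core p n u) (he : 2 ∣ Nat.card Q) : 4 ∣ Nat.card Q := by
  obtain ⟨t, ht⟩ := exists_prime_orderOf_dvd_card' 2 he
  have ht1 : t ≠ 1 := fun e => by rw [e, orderOf_one] at ht; omega
  obtain ⟨d, ρ, hρ⟩ := isCharacter_regular (G := Q)
  obtain ⟨b, -, hb, -, -⟩ := Nineteen.exists_neg_count (ρ := ρ) (perfect h) t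
    (by rw [← ht, pow_orderOf_eq_one, map_one])
  have h1 : (d : ℂ) = Nat.card Q := by
    have := congrFun hρ 1
    rw [Representation.char_one, Module.finrank_fin_fun, if_pos rfl] at this
    exact this
  simp only [hρ, if_neg ht1, Module.finrank_fin_fun, h1] at hb
  refine ⟨b, ?_⟩
  exact_mod_cast (sub_eq_zero.1 hb.symm : (Nat.card Q : ℂ) = 4 * b)

/-- The value of an integral character at an involution. -/
theorem dvd_sub_involution (h : Core p n u) {χ : Q → ℂ} (hχ : IsCharacter Q χ) {t : Q} (ht : t ^ 2 = 1)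
    {m : ℕ} (h1 : χ 1 = m) {a : ℤ} (ha : χ t = a) : (4 : ℤ) ∣ (m : ℤ) - a := by
  obtain ⟨d, ρ, hρ⟩ := hχ
  obtain ⟨b, -, hb, -, -⟩ := Nineteen.exists_neg_count (ρ := ρ) (perfect h) t (by rw [ht, map_one])
  rw [hρ, Module.finrank_fin_fun, ha] at hb
  rw [← hρ, Representation.char_one, Module.finrank_fin_fun, Nat.cast_inj] at h1
  subst h1
  refine ⟨b, ?_⟩
  have : a = (d : ℤ) - 4 * b := by exact_mod_cast hb
  omega

/-- An integral value is bounded by the degree. -/
theorem abs_le_degree {χ : Q → ℂ} (hχ : IsCharacter Q χ) {g : Q} {m : ℕ} (h1 : χ 1 = m) {a : ℤ}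
    (ha : χ g = a) : -(m : ℤ) ≤ a ∧ a ≤ m := by
  have := IsCharacter.norm_le hχ g
  rw [ha, h1, Complex.norm_intCast, Complex.natCast_re] at this
  obtain ⟨h2, h3⟩ := abs_le.1 this
  exact ⟨by exact_mod_cast h2, by exact_mod_cast h3⟩

/-- A constituent of large degree is faithful. -/
theorem eq_one_of_apply_eq {A : Q → ℂ} (hD : Data p n u A) {C : Q → ℂ} (hC : IsCharacter Q C)
    (hsub : IsCharacter Q (A - C)) {r : ℕ} (h1 : C 1 = r) (hr : (idx p - 1) ^ 2 + 1 ≤ r) {g : Q}
    (hg : C g = C 1) : g = 1 := by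
  obtain ⟨d, ρ, hρ⟩ := hC
  have hd : C 1 = (d : ℂ) := by rw [← hρ, Representation.char_one, Module.finrank_fin_fun]
  have hker : ∀ x, x ∈ MonoidHom.ker ρ ↔ C x = C 1 := fun x => by
    rw [MonoidHom.mem_ker, hd, ← hρ]
    have := character_eq_finrank_iff ρ x
    rw [Module.finrank_fin_fun] at this
    rw [this]
    rfl
  have hN := hD.fixed (MonoidHom.ker ρ) inferInstance C ⟨d, ρ, hρ⟩ hsub (fun x hx => (hker x).1 hx) r h1 hr
  have := (hker g).2 hg
  rwa [hN, Subgroup.mem_bot] at this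

/-- A normal subgroup avoiding `u` has order one modulo `p`. -/
theorem normal_card (h : Core p n u) {M : Subgroup Q} (hM : M.Normal) (hu : u ∉ M) :
    Nat.card M % p = 1 := by
  haveI := hM
  haveI : Fact p.Prime := ⟨prime h⟩
  let U := Subgroup.zpowers u
  letI : MulAction U M := MulAction.compHom M ((MulAut.conjNormal (H := M)).comp U.subtype)
  have hU : IsPGroup p U := IsPGroup.of_card (n := 1) (by rw [Nat.card_zpowers, h.ord, pow_one])
  have hfix : MulAction.fixedPoints U M = {1} := by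
    ext m
    simp only [MulAction.mem_fixedPoints, Set.mem_singleton_iff]
    refine ⟨fun hm => ?_, fun hm w => ?_⟩
    · have h1 : (MulAut.conjNormal (u : Q) m : M) = m := hm ⟨u, Subgroup.mem_zpowers u⟩
      have h2 : u * (m : Q) * u⁻¹ = m := by
        rw [← MulAut.conjNormal_apply, h1]
      have hmem := h.cent (m : Q) (mul_inv_eq_iff_eq_mul.1 h2).symm
      by_contra h0
      obtain ⟨j, hj⟩ := (Subgroup.mem_zpowers_iff).1 hmem
      have hpj : ¬ (p : ℤ) ∣ j := fun ⟨c, hc⟩ => h0 (Subtype.ext (by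
        rw [← hj, hc, zpow_mul, zpow_natCast, ← h.ord, pow_orderOf_eq_one, one_zpow]; rfl))
      obtain ⟨a, b, hab⟩ := ((Nat.prime_iff_prime_int.1 (prime h)).coprime_iff_not_dvd.2 hpj)
      apply hu
      have hup : u ^ (p : ℤ) = 1 := by rw [zpow_natCast, ← h.ord, pow_orderOf_eq_one]
      have : u = (m : Q) ^ b := by
        rw [← hj, ← zpow_mul]
        calc u = u ^ (a * p + b * j) := by rw [hab, zpow_one]
          _ = _ := by rw [zpow_add, mul_comm a, zpow_mul, hup, one_zpow, one_mul, mul_comm b]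
      rw [this]
      exact M.zpow_mem m.2 b
    · subst hm
      show (MulAut.conjNormal (w : Q) (1 : M) : M) = 1
      exact map_one _
  have := hU.card_modEq_card_fixedPoints M
  rw [hfix, Nat.card_coe_set_eq, Set.ncard_singleton] at this
  rw [this, Nat.one_mod_eq_one]
  exact (prime h).ne_one

theorem idx_five : idx 5 = 2 := rfl

theorem idx_seven : idx 7 = 3 := rfl

end CfsgLib.OrderDegrees.SmallChar
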