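import Cfsg.Agent.Lib.OrderDegrees.SmallChar.SevenTools

/-!
# The degrees for the prime seven
-/

set_option autoImplicit false
set_option linter.unusedSectionVars false
set_option linter.style.haveILetI false

namespace CfsgLib.OrderDegrees.SmallChar

open Cfsg CfsgLib.CharTheory Finset
open scoped ComplexConjugate Classical

variable {Q : Type*} [Group Q] [Fintype Q] [Fintype (IrrCharacter Q)] {u : Q} {A : Q → ℂ}

theorem mult_mul_degree_le {B : Q → ℂ} {m D : IrrCharacter Q → ℕ} {T : ℕ}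
    (hm : B = ∑ χ, (m χ : ℂ) • (χ : Q → ℂ)) (hD : ∀ χ : IrrCharacter Q, (χ : Q → ℂ) 1 = D χ)
    (hT : B 1 = T) (S : Finset (IrrCharacter Q)) : ∑ χ ∈ S, m χ * D χ ≤ T := by
  refine (sum_le_sum_of_subset (subset_univ S)).trans (le_of_eq ?_)
  have := congrFun hm 1
  rw [hT, Finset.sum_apply] at this
  simp only [Pi.smul_apply, smul_eq_mul, hD] at this
  exact_mod_cast this.symm

/-- No pair of degree four carries `A`. -/
theorem false_of_degree_four (h : Core 7 3 u) {X X' : IrrCharacter Q} {F : Finset (IrrCharacter Q)}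
    {ε : IrrCharacter Q → ℤ} (hS : Special 7 3 u X X' 1 F ε) (hX : (X : Q → ℂ) 1 = ((4 : ℕ) : ℂ)) :
    False := by
  choose D hDeg hDpos using exists_degree (Q := Q)
  obtain ⟨w, hw, hww, -⟩ := exists_root h
  obtain ⟨s, hs⟩ := exists_diffVal h hw hww (IsIrrCharacter.isCharacter X.2)
  have hXc := IsIrrCharacter.isCharacter X.2
  set Ψ : Q → ℂ := fun g => ((X : Q → ℂ) g ^ 2 - (X : Q → ℂ) (g * g)) / 2 with hΨdef
  have hΨ : IsCharacter Q Ψ := ExteriorSquare.isCharacter_extSquare hXc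
  have h7 : u ^ 7 = 1 := by rw [← h.ord, pow_orderOf_eq_one]
  have hu2 : IsConj u (u * u) := by
    have h28 := isConj_pow h.sqr 2
    rw [← pow_mul, show 4 * 2 = 7 + 1 from rfl, pow_add, h7, one_mul, pow_one, sq] at h28
    exact h28.symm
  have hu6 : IsConj (u ^ 3) (u ^ 3 * u ^ 3) := by
    have := isConj_pow hu2 3
    rwa [← sq, ← pow_mul, show 2 * 3 = 3 + 3 from rfl, pow_add] at this
  obtain ⟨v, hv⟩ := exists_sumVal h hΨ
  have hv' : (4 : ℂ) * v = -1 - 7 * (s : ℂ) ^ 2 := by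
    rw [← hv]
    simp only [hΨdef, ← apply_of_isConj hXc hu2, ← apply_of_isConj hXc hu6]
    have h2 : ((X : Q → ℂ) u - (X : Q → ℂ) (u ^ 3)) ^ 2 = (s : ℂ) ^ 2 * (-7) := by
      rw [hs, mul_pow, hw]; norm_num [disc]
    have h1 := hS.sumX
    push_cast at h1
    linear_combination ((X : Q → ℂ) u + (X : Q → ℂ) (u ^ 3) - 1) * h1 + h2
  have hvneg : v < 0 := by
    have : 4 * v = -1 - 7 * s ^ 2 := by exact_mod_cast hv'
    nlinarith [sq_nonneg s]
  obtain ⟨m, hm, hsum⟩ := exists_mult_special hS hΨ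
  rw [hv] at hsum
  have hsum' : v = 2 * (m (trivIrr Q) : ℤ) + 1 * ((m X + m X' : ℕ) : ℤ) + 2 * ∑ f ∈ F, ε f * (m f : ℤ) := by
    exact_mod_cast hsum
  obtain ⟨f, hf, hneg⟩ : ∃ f ∈ F, ε f * (m f : ℤ) < 0 := by
    by_contra hno
    push Not at hno
    have := sum_nonneg hno
    omega
  obtain ⟨hεf, -, -⟩ := hS.memF f hf
  have hεf' : ε f = -1 := hεf.resolve_left fun e => by rw [e] at hneg; omega
  have hmf : 1 ≤ m f := by
    rw [hεf'] at hneg
    omega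
  have hΨ1 : Ψ 1 = ((6 : ℕ) : ℂ) := by
    simp only [hΨdef, mul_one, hX]; norm_num
  have hle := mult_mul_degree_le hm hDeg hΨ1 {f}
  rw [sum_singleton] at hle
  have hdf : D f ≤ 6 := le_trans (Nat.le_mul_of_pos_left _ hmf) hle
  have hdvd := dvd_memF h hS hf (hDeg f)
  rw [hεf'] at hdvd
  have hF2 : (F.erase f).card = 1 := by rw [card_erase_of_mem hf, hS.card]; rfl
  obtain ⟨g, hg⟩ := card_eq_one.1 hF2
  have hgF : g ∈ F := mem_of_mem_erase (hg ▸ mem_singleton_self g)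
  have hrel := (hS.rel 1 (regular_one h)).2
  rw [← add_sum_erase _ _ hf, hg, sum_singleton, hDeg, hDeg, hDeg, hεf'] at hrel
  have hX4 : D X = 4 := by have := hDeg X; rw [hX] at this; exact_mod_cast this.symm
  have hrel' : 1 + 1 * (D X : ℤ) + ((-1) * (D f : ℤ) + ε g * (D g : ℤ)) = 0 := by exact_mod_cast hrel
  apply degree_ne_one h hS hgF
  have hpos := hDpos f
  rw [hDeg, show D g = 1 by rcases (hS.memF g hgF).1 with e | e <;> rw [e] at hrel' <;> omega, Nat.cast_one]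

/-- A positive member occurs in `A`. -/
theorem exists_positive (hD : Data 7 3 u A) :
    ∃ (X X' f θ : IrrCharacter Q) (δ : ℤ) (ε : IrrCharacter Q → ℤ),
      Special 7 3 u X X' δ {f, θ} ε ∧ f ≠ θ ∧ ε f = 1 ∧ IsCharacter Q (A - (f : Q → ℂ)) ∧
        (((f : Q → ℂ) 1 = ((15 : ℕ) : ℂ) ∧ A = (f : Q → ℂ)) ∨ (f : Q → ℂ) 1 = ((8 : ℕ) : ℂ)) := by
  have h := hD.core
  obtain ⟨X, X', δ, F, ε, hS⟩ := exists_special h
  obtain ⟨f₁, f₂, hne, rfl⟩ := card_eq_two.1 (show F.card = 2 by rw [hS.card]; rfl)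
  choose D hDeg hDpos using exists_degree (Q := Q)
  obtain ⟨m, hm, hsum⟩ := exists_mult_special hS hD.char
  have hz : m (trivIrr Q) = 0 := by
    by_contra h0
    exact hD.orth (exists_sub_isCharacter hm h0).1
  have h15 : A 1 = ((15 : ℕ) : ℂ) := by rw [hD.deg]; rfl
  have hfin : ∀ f θ : IrrCharacter Q, f ≠ θ → Special 7 3 u X X' δ {f, θ} ε → ε f = 1 → m f ≠ 0 →
      ∃ (X X' f θ : IrrCharacter Q) (δ : ℤ) (ε : IrrCharacter Q → ℤ),
      Special 7 3 u X X' δ {f, θ} ε ∧ f ≠ θ ∧ ε f = 1 ∧ IsCharacter Q (A - (f : Q → ℂ)) ∧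
        (((f : Q → ℂ) 1 = ((15 : ℕ) : ℂ) ∧ A = (f : Q → ℂ)) ∨ (f : Q → ℂ) 1 = ((8 : ℕ) : ℂ)) := by
    intro f θ hfθ hS' hεf hmf
    obtain ⟨hsub, r, hr, hr0⟩ := exists_sub_isCharacter hm hmf
    refine ⟨X, X', f, θ, δ, ε, hS', hfθ, hεf, hsub, ?_⟩
    rw [h15, hDeg] at hr
    have hr' : 15 = D f + r := by exact_mod_cast hr
    have hdvd := dvd_memF h hS' (mem_insert_self f _) (hDeg f)
    rw [hεf] at hdvd
    have h1 : D f ≠ 1 := fun e => degree_ne_one h hS' (mem_insert_self f _) (by rw [hDeg, e, Nat.cast_one])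
    have hpos := hDpos f
    rcases (show (D f = 15 ∧ r = 0) ∨ D f = 8 by omega) with ⟨e, e0⟩ | e
    · exact Or.inl ⟨by rw [hDeg, e], hr0 e0⟩
    · exact Or.inr (by rw [hDeg, e])
  by_cases hp1 : ε f₁ = 1 ∧ m f₁ ≠ 0
  · exact hfin f₁ f₂ hne hS hp1.1 hp1.2
  by_cases hp2 : ε f₂ = 1 ∧ m f₂ ≠ 0
  · exact hfin f₂ f₁ hne.symm (pair_comm f₁ f₂ ▸ hS) hp2.1 hp2.2
  exfalso
  rw [hD.sumA, hz, sum_pair hne] at hsum
  simp only [idx] at hsum
  norm_num at hsum
  have hsum' : (2 : ℤ) = δ * ((m X + m X' : ℕ) : ℤ) + 2 * (ε f₁ * (m f₁ : ℤ) + ε f₂ * (m f₂ : ℤ)) := by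
    exact_mod_cast hsum
  have hneg : ∀ f ∈ ({f₁, f₂} : Finset _), ¬ (ε f = 1 ∧ m f ≠ 0) → ε f * (m f : ℤ) ≤ 0 := fun f hf hno => by
    rcases (hS.memF f hf).1 with e | e
    · rw [show m f = 0 from not_not.1 fun h0 => hno ⟨e, h0⟩]; simp
    · rw [e]; omega
  have h1 := hneg f₁ (mem_insert_self _ _) hp1
  have h2 := hneg f₂ (by simp) hp2
  rcases hS.sgn with rfl | rfl
  · have hle := mult_mul_degree_le hm hDeg h15 {X, X'}
    have hXX : D X' = D X := by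
      have := (hS.rel 1 (regular_one h)).1; rw [hDeg, hDeg] at this; exact_mod_cast this
    rw [sum_pair hS.ne, hXX, ← add_mul] at hle
    have h2s : 2 ≤ m X + m X' := by omega
    have hx7 : 2 * D X ≤ 15 := le_trans (Nat.mul_le_mul_right _ h2s) hle
    have hdvd := dvd_X h hS (hDeg X)
    have hpos := hDpos X
    exact false_of_degree_four h hS (by rw [hDeg, show D X = 4 by omega])
  · omega

/-- The two possible shapes. -/
theorem exists_shape7 (hD : Data 7 3 u A) :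
    ∃ (X X' f θ : IrrCharacter Q) (ε : IrrCharacter Q → ℤ),
      Special 7 3 u X X' (-1) {f, θ} ε ∧ f ≠ θ ∧ ε f = 1 ∧ ε θ = -1 ∧
        (θ : Q → ℂ) 1 = ((6 : ℕ) : ℂ) ∧ IsCharacter Q (A - (f : Q → ℂ)) ∧
        (((f : Q → ℂ) 1 = ((15 : ℕ) : ℂ) ∧ (X : Q → ℂ) 1 = ((10 : ℕ) : ℂ) ∧ A = (f : Q → ℂ)) ∨
          ((f : Q → ℂ) 1 = ((8 : ℕ) : ℂ) ∧ (X : Q → ℂ) 1 = ((3 : ℕ) : ℂ))) := by
  have h := hD.core
  obtain ⟨X, X', f, θ, δ, ε, hS, hne, hεf, hsub, hdeg⟩ := exists_positive hD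
  obtain ⟨t, ht⟩ := exists_prime_orderOf_dvd_card' 2 (two_dvd_card hD.char hD.real hD.orth
    (m := 15) (by rw [hD.deg]; rfl) (by norm_num))
  have ht2 : t ^ 2 = 1 := by rw [← ht, pow_orderOf_eq_one]
  have ht1 : t ≠ 1 := fun e => by rw [e, orderOf_one] at ht; omega
  have htr : ¬ 7 ∣ orderOf t := by rw [ht]; norm_num
  choose D hDeg hDpos using exists_degree (Q := Q)
  obtain ⟨b, hb⟩ := exists_int_involution h (IsIrrCharacter.isCharacter X.2) ht2
  obtain ⟨a, ha⟩ := exists_int_involution h (IsIrrCharacter.isCharacter f.2) ht2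
  obtain ⟨y, hy⟩ := exists_int_involution h (IsIrrCharacter.isCharacter θ.2) ht2
  have hrel := (hS.rel 1 (regular_one h)).2
  rw [sum_pair hne, hDeg, hDeg, hDeg, hεf] at hrel
  have hrel' : 1 + δ * (D X : ℤ) + (1 * (D f : ℤ) + ε θ * (D θ : ℤ)) = 0 := by exact_mod_cast hrel
  have hrelt := (hS.rel t htr).2
  rw [sum_pair hne, hb, ha, hy, hεf] at hrelt
  have hrelt' : 1 + δ * b + (1 * a + ε θ * y) = 0 := by exact_mod_cast hrelt
  have hS0 : (D X : ℤ) * D f * D θ + δ * b * b * (D f * D θ) + a * a * (D X * D θ) +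
      ε θ * y * y * (D X * D f) = 0 := by
    have := pairs_special hS htr htr
    rw [pairs_seven h ht2 ht2 (Or.inl rfl), pairs_seven h ht2 ht2 (Or.inr rfl), Nat.cast_zero, zero_mul,
      eq_comm, mul_eq_zero] at this
    have h0 := this.resolve_left (mul_ne_zero two_ne_zero (Nat.cast_ne_zero.2 Nat.card_pos.ne'))
    rw [sum_pair hne, hb, ha, hy, hεf, hDeg, hDeg, hDeg] at h0
    simp only [map_intCast] at h0
    have e1 : (D X : ℂ) ≠ 0 := Nat.cast_ne_zero.2 (hDpos X).ne'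
    have e2 : (D f : ℂ) ≠ 0 := Nat.cast_ne_zero.2 (hDpos f).ne'
    have e3 : (D θ : ℂ) ≠ 0 := Nat.cast_ne_zero.2 (hDpos θ).ne'
    field_simp at h0
    apply Int.cast_injective (α := ℂ)
    push_cast
    linear_combination h0
  have hDf : D f = 15 ∨ D f = 8 := by
    rcases hdeg with ⟨e, -⟩ | e <;> rw [hDeg] at e <;> [left; right] <;> exact_mod_cast e
  have hfaith : a ≠ (D f : ℤ) := fun e => ht1 (by
    have he : (f : Q → ℂ) t = (f : Q → ℂ) 1 := by rw [ha, e, hDeg, Int.cast_natCast]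
    rcases hdeg with ⟨-, hA⟩ | h8
    · exact hD.faith t (by rw [hA, he])
    · exact eq_one_of_apply_eq hD (IsIrrCharacter.isCharacter f.2) hsub h8 (by decide) he)
  have hsq : ∀ {F E : ℤ}, 0 < F → 0 < E → a ≠ F → ∀ c : ℤ,
      E * (a - F) ^ 2 + F * (c - E) ^ 2 + (a * E - c * F) ^ 2 ≠ 0 := fun {F E} hF hE haF c e => by
    have h1 : 0 < E * (a - F) ^ 2 := mul_pos hE (by
      have : a - F ≠ 0 := sub_ne_zero.2 haF
      positivity)
    have h2 : 0 ≤ F * (c - E) ^ 2 := mul_nonneg hF.le (sq_nonneg _)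
    have h3 := sq_nonneg (a * E - c * F)
    omega
  have hXp : (0 : ℤ) < D X := by exact_mod_cast hDpos X
  have hθp : (0 : ℤ) < D θ := by exact_mod_cast hDpos θ
  have hfp : (0 : ℤ) < D f := by exact_mod_cast hDpos f
  obtain ⟨rfl, hεθ⟩ : δ = -1 ∧ ε θ = -1 := by
    rcases hS.sgn with rfl | rfl <;> rcases (hS.memF θ (by simp)).1 with e | e <;> rw [e] at hrel' hrelt' hS0
    · exfalso; omega
    · exfalso
      apply hsq hfp hXp hfaith b
      obtain rfl : y = 1 + a + b := by omega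
      have e' : (D θ : ℤ) = 1 + D f + D X := by omega
      rw [e'] at hS0
      linear_combination hS0
    · exfalso
      apply hsq hfp hθp hfaith y
      obtain rfl : b = 1 + a + y := by omega
      have e' : (D X : ℤ) = 1 + D f + D θ := by omega
      rw [e'] at hS0
      linear_combination hS0
    · exact ⟨rfl, e⟩
  rw [hεθ] at hrel' hrelt' hS0
  have hdX := dvd_X h hS (hDeg X)
  have hdθ := dvd_memF h hS (show θ ∈ ({f, θ} : Finset _) by simp) (hDeg θ)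
  rw [hεθ] at hdθ
  have hcases : (D f = 15 ∧ D X = 10 ∧ D θ = 6) ∨ (D f = 8 ∧ D X = 3 ∧ D θ = 6) ∨
      (D f = 15 ∧ D X = 3 ∧ D θ = 13) := by omega
  have hdiv1 := dvd_sub_involution h (IsIrrCharacter.isCharacter X.2) ht2 (hDeg X) hb
  have hdiv2 := dvd_sub_involution h (IsIrrCharacter.isCharacter θ.2) ht2 (hDeg θ) hy
  refine ⟨X, X', f, θ, ε, hS, hne, hεf, hεθ, ?_⟩
  rcases hcases with ⟨e1, e2, e3⟩ | ⟨e1, e2, e3⟩ | ⟨e1, e2, e3⟩
  · refine ⟨by rw [hDeg, e3], hsub, Or.inl ⟨by rw [hDeg, e1], by rw [hDeg, e2], ?_⟩⟩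
    rcases hdeg with ⟨-, hA⟩ | h8
    · exact hA
    · rw [hDeg, e1, Nat.cast_inj] at h8; omega
  · exact ⟨by rw [hDeg, e3], hsub, Or.inr ⟨by rw [hDeg, e1], by rw [hDeg, e2]⟩⟩
  · exfalso
    obtain ⟨hb1, hb2⟩ := abs_le_degree (IsIrrCharacter.isCharacter X.2) (hDeg X) hb
    obtain ⟨hy1, hy2⟩ := abs_le_degree (IsIrrCharacter.isCharacter θ.2) (hDeg θ) hy
    rw [e2] at hb1 hb2 hdiv1
    rw [e3] at hy1 hy2 hdiv2
    rw [e1] at hfaith
    rw [e1, e2, e3] at hS0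
    push_cast at hb1 hb2 hy1 hy2 hdiv1 hdiv2 hfaith hS0
    obtain rfl : a = b + y - 1 := by omega
    rcases (show b = -1 ∨ b = 3 by omega) with rfl | rfl <;>
      interval_cases y <;> omega

end CfsgLib.OrderDegrees.SmallChar
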