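import Cfsg.Agent.Lib.OrderDegrees.SmallChar.Five
import Cfsg.Agent.Lib.CharTheory.ExteriorSquare
import Cfsg.Agent.Lib.ZerosCodegree.CharBasics

/-!
# Tools for the prime seven
-/

set_option autoImplicit false
set_option linter.unusedSectionVars false
set_option linter.style.haveILetI false

namespace CfsgLib.OrderDegrees.SmallChar

open Cfsg CfsgLib.CharTheory Finset
open scoped ComplexConjugate Classical

variable {Q : Type*} [Group Q] [Fintype Q] {p n : ℕ} {u : Q}

/-- A character without trivial constituent sums to zero. -/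
theorem sum_eq_zero_of_orth {A : Q → ℂ} (hA : IsCharacter Q A)
    (horth : ¬ IsCharacter Q (A - (trivIrr Q : Q → ℂ))) : ∑ g, A g = 0 := by
  haveI := Fintype.ofFinite (IrrCharacter Q)
  obtain ⟨m, hm⟩ := IsCharacter.exists_sum hA
  have h0 : m (trivIrr Q) = 0 := by
    by_contra h0
    exact horth (exists_sub_isCharacter hm h0).1
  have h1 := classInner_sum_irr (fun χ => (m χ : ℂ)) (trivIrr Q)
  rw [← hm, h0, Nat.cast_zero, classInner] at h1
  simp only [trivIrr_apply, map_one, mul_one] at h1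
  exact (mul_eq_zero.1 h1).resolve_left (inv_ne_zero (Nat.cast_ne_zero.2 Nat.card_pos.ne'))

/-- A real character of odd degree without trivial constituent forces even order. -/
theorem two_dvd_card {A : Q → ℂ} (hA : IsCharacter Q A) (hreal : ∀ g, conj (A g) = A g)
    (horth : ¬ IsCharacter Q (A - (trivIrr Q : Q → ℂ))) {m : ℕ} (h1 : A 1 = m) (hm : ¬ 2 ∣ m) :
    2 ∣ Nat.card Q := by
  by_contra hodd
  let e := Fintype.equivFin Q
  set S := univ.filter fun g : Q => g ≠ 1 with hS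
  have hne : ∀ g ∈ S, e g ≠ e g⁻¹ := fun g hg he => by
    have h2 : g ^ 2 = 1 := by
      rw [sq]
      exact mul_eq_one_iff_eq_inv.2 (e.injective he)
    exact hodd (((orderOf_eq_prime h2 (mem_filter.1 hg).2).symm.dvd).trans (orderOf_dvd_natCard g))
  set L := S.filter fun g => e g < e g⁻¹ with hL
  have hR : ∑ g ∈ S.filter (fun g => ¬ e g < e g⁻¹), A g = ∑ g ∈ L, A g := by
    refine sum_nbij' (·⁻¹) (·⁻¹) ?_ ?_ (fun _ _ => inv_inv _) (fun _ _ => inv_inv _) ?_
    · intro g hg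
      simp only [hL, hS, mem_filter, mem_univ, true_and] at hg ⊢
      refine ⟨inv_ne_one.2 hg.1, ?_⟩
      rw [inv_inv]
      exact lt_of_le_of_ne (not_lt.1 hg.2) (hne g (mem_filter.2 ⟨mem_univ _, hg.1⟩)).symm
    · intro g hg
      simp only [hL, hS, mem_filter, mem_univ, true_and] at hg ⊢
      exact ⟨inv_ne_one.2 hg.1, by rw [inv_inv]; exact not_lt.2 hg.2.le⟩
    · intro g _
      rw [isCharacter_inv hA, hreal]
  have hsum := sum_eq_zero_of_orth hA horth
  rw [← add_sum_erase _ _ (mem_univ (1 : Q)), show univ.erase (1 : Q) = S by ext g; simp [hS],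
    ← sum_filter_add_sum_filter_not S fun g => e g < e g⁻¹, hR, ← hL, h1] at hsum
  have hint : IsIntegral ℤ (∑ g ∈ L, A g) := IsIntegral.sum _ fun g _ => IsCharacter.isIntegral hA g
  rw [show ∑ g ∈ L, A g = (((-(m : ℚ)) / 2 : ℚ) : ℂ) by push_cast; linear_combination hsum / 2] at hint
  obtain ⟨z, hz⟩ := exists_int_of_isIntegral_ratCast hint
  have : (m : ℤ) = 2 * -z := by
    have : (m : ℚ) = 2 * -(z : ℚ) := by rw [hz]; ring
    exact_mod_cast this
  omega

/-- Character values at involutions are integers. -/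
theorem exists_int_involution (h : Core p n u) {χ : Q → ℂ} (hχ : IsCharacter Q χ) {t : Q}
    (ht : t ^ 2 = 1) : ∃ a : ℤ, χ t = a := by
  obtain ⟨d, ρ, hρ⟩ := hχ
  obtain ⟨b, -, hb, -, -⟩ := Nineteen.exists_neg_count (ρ := ρ) (perfect h) t (by rw [ht, map_one])
  exact ⟨(d : ℤ) - 4 * b, by rw [← hρ, hb, Module.finrank_fin_fun]; push_cast; ring⟩

/-- For `p = 7` no element of order `p` is the product of two involutions. -/
theorem pairs_seven {u : Q} (h : Core 7 3 u) {t t' : Q} (ht : t ^ 2 = 1) (ht' : t' ^ 2 = 1) {v : Q}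
    (hv : v = u ∨ v = u ^ 3) : pairs t t' v = 0 := by
  unfold pairs
  rw [card_eq_zero, filter_eq_empty_iff]
  rintro y - ⟨h1, h2⟩
  have hsq : ∀ {s z : Q}, s ^ 2 = 1 → IsConj s z → z * z = 1 := fun {s z} hs hz => by
    obtain ⟨a, rfl⟩ := isConj_iff.1 hz
    rw [show a * s * a⁻¹ * (a * s * a⁻¹) = a * s ^ 2 * a⁻¹ by rw [sq]; group, hs]; group
  have hy := hsq ht h1
  have hyv := hsq ht' h2
  have hyi : y⁻¹ = y := inv_eq_of_mul_eq_one_left hy
  have hcv : IsConj v v⁻¹ := isConj_iff.2 ⟨y, by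
    rw [hyi]; exact eq_inv_of_mul_eq_one_left (by rw [mul_assoc]; exact hyv)⟩
  have h7 : u ^ 7 = 1 := by rw [← h.ord, pow_orderOf_eq_one]
  have e6 : IsConj (u ^ 3) (u ^ 6) := by
    have h35 := isConj_pow h.sqr 3
    rw [← pow_mul, show 4 * 3 = 7 + 5 from rfl, pow_add, h7, one_mul] at h35
    have h56 := isConj_pow h.sqr 5
    rw [← pow_mul, show 4 * 5 = 7 + (7 + 6) from rfl, pow_add, pow_add, h7, one_mul, one_mul] at h56
    exact h35.trans h56
  rcases hv with rfl | rfl
  · apply h.nconj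
    rw [show v⁻¹ = v ^ 6 from inv_eq_of_mul_eq_one_right (by rw [← pow_succ', h7])] at hcv
    exact hcv.trans e6.symm
  · apply h.nconj
    rw [show (u ^ 3)⁻¹ = u ^ 4 from inv_eq_of_mul_eq_one_right (by rw [← pow_add, h7])] at hcv
    exact h.sqr.trans hcv.symm

/-- If `f` exceeds the character `C` by a positive constant on a normal subgroup, the subgroup is in
the kernel of `f`. -/
theorem apply_eq_of_shift (f : IrrCharacter Q) {C : Q → ℂ} (hC : IsCharacter Q C) (M : Subgroup Q)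
    [M.Normal] {c : ℕ} (hc : 0 < c) (h : ∀ m ∈ M, (f : Q → ℂ) m = C m + c) {m : Q} (hm : m ∈ M) :
    (f : Q → ℂ) m = (f : Q → ℂ) 1 := by
  obtain ⟨d, ρ, hirr, hρ⟩ := f.2
  obtain ⟨e, σ, hσ⟩ := hC
  haveI := Fintype.ofFinite M
  haveI : Invertible (Nat.card M : ℂ) := invertibleOfNonzero (Nat.cast_ne_zero.2 Nat.card_pos.ne')
  let ρ' : Representation ℂ M (Fin d → ℂ) := ρ.comp M.subtype
  let σ' : Representation ℂ M (Fin e → ℂ) := σ.comp M.subtype
  have hρ' := Representation.card_inv_mul_sum_char_eq_finrank ρ'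
  have hσ' := Representation.card_inv_mul_sum_char_eq_finrank σ'
  have key : (Module.finrank ℂ ρ'.invariants : ℂ) = Module.finrank ℂ σ'.invariants + c := by
    rw [← hρ', ← hσ', sum_congr rfl fun x _ => show ρ'.character x = σ'.character x + c by
      have := h x x.2
      rw [← hρ, ← hσ] at this
      exact this, sum_add_distrib, sum_const, card_univ, ← Nat.card_eq_fintype_card, nsmul_eq_mul,
      mul_add, inv_mul_cancel_left₀ (Nat.cast_ne_zero.2 Nat.card_pos.ne')]
  have hne : ρ'.invariants ≠ ⊥ := fun hb => by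
    rw [hb, finrank_bot, Nat.cast_zero] at key
    have h0 : Module.finrank ℂ σ'.invariants + c = 0 := by exact_mod_cast key.symm
    omega
  obtain ⟨v, hv, hv0⟩ := Submodule.exists_mem_ne_zero_of_ne_bot hne
  haveI := hirr
  have hid := CfsgLib.ZerosCodegree.eq_id_of_fixed_vector ρ M hv0
    (fun x hx => (Representation.mem_invariants _ _).1 hv ⟨x, hx⟩) hm
  rw [← hρ, (character_eq_finrank_iff ρ m).2 hid, Representation.char_one]

/-- The product of the eigenvalues in a perfect group is one. -/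
theorem prod_eigen (h : Core p n u) {d : ℕ} (ρ : Representation ℂ Q (Fin d → ℂ)) (g : Q) {ι : Type}
    [Fintype ι] (b : Module.Basis ι ℂ (Fin d → ℂ)) {μ : ι → ℂ} (hb : ∀ i, ρ g (b i) = μ i • b i) :
    ∏ i, μ i = 1 := by
  have h1 := Nineteen.det_eq_one (perfect h) ρ g
  rw [← LinearMap.det_toMatrix b,
    show LinearMap.toMatrix b b (ρ g) = Matrix.diagonal μ by
      ext i j
      rw [LinearMap.toMatrix_apply, hb j, map_smul, Module.Basis.repr_self, Matrix.diagonal_apply]
      by_cases hij : i = j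
      · subst hij; simp
      · simp [hij],
    Matrix.det_diagonal] at h1
  exact h1

/-- The exterior square of a three dimensional special linear character is its conjugate. -/
theorem extSquare_three (h : Core p n u) {χ : Q → ℂ} (hχ : IsCharacter Q χ) (h1 : χ 1 = ((3 : ℕ) : ℂ))
    (g : Q) : χ g ^ 2 - χ (g * g) = 2 * conj (χ g) := by
  obtain ⟨d, ρ, hρ⟩ := hχ
  obtain ⟨ι, hι, b, μ, hcard, hμ, hb, hchar⟩ := exists_eigenbasis ρ g
  have hd : d = 3 := by
    rw [← hρ, Representation.char_one, Module.finrank_fin_fun, Nat.cast_inj] at h1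
    exact h1
  have hι3 : Fintype.card ι = 3 := by rw [hcard, Module.finrank_fin_fun, hd]
  let e := Fintype.equivFinOfCardEq hι3
  have hprod := prod_eigen h ρ g b (fun i => by simpa using hb 1 i)
  have hsum : ∀ F : ι → ℂ, ∑ i, F i = F (e.symm 0) + F (e.symm 1) + F (e.symm 2) := fun F => by
    rw [← e.symm.sum_comp, Fin.sum_univ_three]
  rw [← e.symm.prod_comp, Fin.prod_univ_three] at hprod
  have hone : ∀ i, μ i * conj (μ i) = 1 := fun i => by
    rw [Complex.mul_conj', norm_eq_one_of_pow_eq_one' (orderOf_pos g).ne' (hμ i)]; norm_num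
  have hg : χ g = μ (e.symm 0) + μ (e.symm 1) + μ (e.symm 2) := by
    rw [← hρ, ← hsum]; simpa using hchar 1
  have hg2 : χ (g * g) = μ (e.symm 0) ^ 2 + μ (e.symm 1) ^ 2 + μ (e.symm 2) ^ 2 := by
    rw [← hρ, ← sq, hchar 2, hsum]
  rw [hg2, hg]
  simp only [map_add]
  have c0 := hone (e.symm 0)
  have c1 := hone (e.symm 1)
  have c2 := hone (e.symm 2)
  generalize μ (e.symm 0) = a, μ (e.symm 1) = b', μ (e.symm 2) = c at *
  linear_combination 2 * (conj a + conj b' + conj c) * hprod - 2 * b' * c * c0 - 2 * a * c * c1 -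
    2 * a * b' * c2

/-- The eigenvalues other than `± 1` of an element with real character values multiply to one. -/
theorem prod_nonreal {ι : Type*} [Fintype ι] (μ : ι → ℂ) {o : ℕ} (ho : o ≠ 0) (hμ : ∀ i, μ i ^ o = 1)
    (hreal : ∀ k : ℕ, conj (∑ i, μ i ^ k) = ∑ i, μ i ^ k) :
    ∏ i ∈ univ.filter (fun i => μ i ^ 2 ≠ 1), μ i = 1 := by
  set c : ℂ → ℕ := fun z => (univ.filter fun i => μ i = z).card with hc
  have hn : ∀ z : ℂ, z ^ o = 1 → (o : ℂ) * c z = ∑ k ∈ range o, (∑ i, μ i ^ k) * z⁻¹ ^ k := by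
    intro z hz
    have hz0 : z ≠ 0 := fun e => by rw [e, zero_pow ho] at hz; exact zero_ne_one hz
    simp only [sum_mul, ← mul_pow]
    rw [sum_comm, sum_congr rfl fun i _ => Nineteen.geom_sum_root
      (show (μ i * z⁻¹) ^ o = 1 by rw [mul_pow, hμ, inv_pow, hz, inv_one, one_mul]),
      ← sum_filter, sum_const, nsmul_eq_mul, mul_comm]
    simp only [hc, mul_inv_eq_one₀ hz0]
  have hunit : ∀ z : ℂ, z ^ o = 1 → z * conj z = 1 := fun z hz => by
    rw [Complex.mul_conj', norm_eq_one_of_pow_eq_one' ho hz]; norm_num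
  have hsymm : ∀ z : ℂ, z ^ o = 1 → c (conj z) = c z := by
    intro z hz
    have h1 := congrArg (starRingEnd ℂ) (hn z hz)
    simp only [map_mul, map_natCast, map_sum, map_pow, map_inv₀] at h1
    have hreal' : ∀ k : ℕ, ∑ i, conj (μ i) ^ k = ∑ i, μ i ^ k := fun k => by
      have := hreal k
      simpa only [map_sum, map_pow] using this
    simp only [hreal'] at h1
    rw [← hn (conj z) (by rw [← map_pow, hz, map_one])] at h1
    exact_mod_cast mul_left_cancel₀ (Nat.cast_ne_zero.2 ho) h1.symm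
  set G := univ.filter fun i => μ i ^ 2 ≠ 1 with hG
  have hfib : ∀ z ∈ G.image μ, (G.filter fun i => μ i = z).card = c z := fun z hz => by
    obtain ⟨i, hi, rfl⟩ := mem_image.1 hz
    simp only [hc, hG, filter_filter]
    congr 1
    refine filter_congr fun j _ => ⟨fun hj => hj.2, fun hj => ⟨?_, hj⟩⟩
    rw [hj]; exact (mem_filter.1 hi).2
  have hprod := prod_comp (fun z : ℂ => z) μ (s := G)
  rw [hprod, prod_congr rfl fun z hz => by rw [hfib z hz]]
  have hroot : ∀ z ∈ G.image μ, z ^ o = 1 ∧ z ^ 2 ≠ 1 := fun z hz => by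
    obtain ⟨i, hi, rfl⟩ := mem_image.1 hz
    exact ⟨hμ i, (mem_filter.1 hi).2⟩
  refine prod_involution (fun z _ => conj z) (fun z hz => ?_) (fun z hz _ he => ?_) (fun z hz => ?_)
    fun z _ => Complex.conj_conj z
  · show z ^ c z * conj z ^ c (conj z) = 1
    rw [hsymm z (hroot z hz).1, ← mul_pow, hunit z (hroot z hz).1, one_pow]
  · have h1 := hunit z (hroot z hz).1
    rw [he, ← sq] at h1
    exact (hroot z hz).2 h1
  · show conj z ∈ G.image μ
    obtain ⟨i, hi, rfl⟩ := mem_image.1 hz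
    have hpos : 0 < c (conj (μ i)) := by
      rw [hsymm _ (hμ i)]
      exact card_pos.2 ⟨i, by simp⟩
    obtain ⟨j, hj⟩ := card_pos.1 hpos
    have hj' : μ j = conj (μ i) := by simpa [hc] using hj
    refine mem_image.2 ⟨j, mem_filter.2 ⟨mem_univ _, ?_⟩, hj'⟩
    rw [hj', ← map_pow]
    intro e
    exact (mem_filter.1 hi).2 ((starRingEnd ℂ).injective (e.trans (map_one _).symm))

/-- The order modulo `p ^ 2`. -/
theorem sq_dvd_card_sub (h : Core p n u) [Fintype (IrrCharacter Q)] {X X' : IrrCharacter Q} {δ : ℤ}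
    {F : Finset (IrrCharacter Q)} {ε : IrrCharacter Q → ℤ} (hS : Special p n u X X' δ F ε)
    (D : IrrCharacter Q → ℕ) (hD : ∀ χ : IrrCharacter Q, (χ : Q → ℂ) 1 = D χ) :
    (p : ℤ) ^ 2 ∣ Nat.card Q - (1 + 2 * (D X : ℤ) ^ 2 + ∑ f ∈ F, (D f : ℤ) ^ 2) := by
  obtain ⟨d1, d2, d3, d4, d5⟩ := hS.disj
  set T : Finset (IrrCharacter Q) := insert (trivIrr Q) (insert X (insert X' F)) with hT
  have hsq : (∑ χ, (D χ : ℤ) ^ 2) = Nat.card Q := by
    apply Int.cast_injective (α := ℂ)
    push_cast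
    rw [← sum_congr rfl (fun χ _ => congrArg (· ^ 2) (hD χ)), sum_degree_sq]
  have hTsum : ∑ χ ∈ T, (D χ : ℤ) ^ 2 = 1 + 2 * (D X : ℤ) ^ 2 + ∑ f ∈ F, (D f : ℤ) ^ 2 := by
    have e0 : D (trivIrr Q) = 1 := by
      have := hD (trivIrr Q); rw [trivIrr_apply] at this; exact_mod_cast this.symm
    have e2 : D X' = D X := by
      have := (hS.rel 1 (regular_one h)).1; rw [hD, hD] at this; exact_mod_cast this
    rw [hT, sum_insert (by simp [d1, d2, d3]), sum_insert (by simp [hS.ne, d4]), sum_insert d5, e0, e2]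
    push_cast
    ring
  rw [← hTsum, ← hsq, ← sum_compl_add_sum T, add_sub_cancel_right]
  refine dvd_sum fun χ hχ => pow_dvd_pow_of_dvd ?_ 2
  simp only [hT, mem_compl, mem_insert, not_or] at hχ
  obtain ⟨e1, e2⟩ := hS.other χ hχ.1 hχ.2.1 hχ.2.2.1 hχ.2.2.2
  simpa using dvd_degree h (IsIrrCharacter.isCharacter χ.2) (hD χ) (a := 0) (by rw [e1, e2]; norm_num)

/-- Simplicity from the faithfulness of the nonvanishing characters. -/
theorem isSimple_of_faithful (h : Core p n u) [Fintype (IrrCharacter Q)] {X X' : IrrCharacter Q} {δ : ℤ}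
    {F : Finset (IrrCharacter Q)} {ε : IrrCharacter Q → ℤ} (hS : Special p n u X X' δ F ε)
    (hfaith : ∀ M : Subgroup Q, M.Normal → u ∉ M → ∀ C : IrrCharacter Q, (C = X ∨ C = X' ∨ C ∈ F) →
      (∀ m ∈ M, (C : Q → ℂ) m = (C : Q → ℂ) 1) → M = ⊥) : IsSimpleGroup Q := by
  haveI : Nontrivial Q := ⟨⟨u, 1, u_ne_one h⟩⟩
  refine ⟨fun M hM => ?_⟩
  by_cases huM : u ∈ M
  · exact Or.inr (h.gen M hM huM)
  left
  by_contra hne
  haveI := hM
  haveI := Fintype.ofFinite (Q ⧸ M)
  haveI := Fintype.ofFinite (IrrCharacter (Q ⧸ M))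
  let infl : IrrCharacter (Q ⧸ M) → IrrCharacter Q := fun ψ =>
    ⟨fun g => (ψ : Q ⧸ M → ℂ) (QuotientGroup.mk' M g),
      isIrrCharacter_comp ψ.2 (QuotientGroup.mk'_surjective M)⟩
  have happ : ∀ ψ g, (infl ψ : Q → ℂ) g = (ψ : Q ⧸ M → ℂ) (QuotientGroup.mk' M g) := fun _ _ => rfl
  have hzero : ∀ ψ : IrrCharacter (Q ⧸ M), ψ ≠ trivIrr (Q ⧸ M) → (ψ : Q ⧸ M → ℂ) (QuotientGroup.mk' M u) = 0 := by
    intro ψ hψ
    rw [← happ]
    have hker : ∀ m ∈ M, (infl ψ : Q → ℂ) m = (infl ψ : Q → ℂ) 1 := fun m hm => by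
      rw [happ ψ m, happ ψ 1, show QuotientGroup.mk' M m = 1 from (QuotientGroup.eq_one_iff m).2 hm, map_one]
    refine (hS.other (infl ψ) (fun he => hψ (Subtype.ext (funext fun x => ?_))) (fun he => ?_)
      (fun he => ?_) fun he => ?_).1
    · obtain ⟨g, rfl⟩ := QuotientGroup.mk'_surjective M x
      rw [← happ, he, trivIrr_apply, trivIrr_apply]
    · exact hne (hfaith M hM huM _ (Or.inl he) hker)
    · exact hne (hfaith M hM huM _ (Or.inr (Or.inl he)) hker)
    · exact hne (hfaith M hM huM _ (Or.inr (Or.inr he)) hker)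
  have hu : QuotientGroup.mk' M u ≠ 1 := fun e => huM ((QuotientGroup.eq_one_iff u).1 e)
  have hsum := sum_degree_mul (G := Q ⧸ M) (QuotientGroup.mk' M u)
  rw [if_neg hu, sum_eq_single (trivIrr (Q ⧸ M)) (fun ψ _ hψ => by rw [hzero ψ hψ, mul_zero])
    (fun h' => absurd (mem_univ _) h')] at hsum
  simp [trivIrr_apply] at hsum

end CfsgLib.OrderDegrees.SmallChar
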