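import Cfsg.Agent.Lib.OrderDegrees.SmallChar.Basic
import Cfsg.Agent.Lib.CharTheory.Linear
import Cfsg.Agent.Lib.CharTheory.Decomp

/-!
# The characters not vanishing on the elements of order `p`
-/

set_option autoImplicit false
set_option linter.unusedSectionVars false
set_option linter.style.haveILetI false

namespace CfsgLib.OrderDegrees.SmallChar

open Cfsg CfsgLib.CharTheory Finset
open CfsgLib.ZerosCodegree (powTwist powTwist_apply isIrrCharacter_powTwist)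
open scoped ComplexConjugate Classical

variable {Q : Type*} [Group Q] [Fintype Q] {p n : ℕ} {u : Q}

/-- The members of the principal set: a pair `X`, `X'` and `idx p - 1` further characters. -/
structure Special [Fintype (IrrCharacter Q)] (p n : ℕ) (u : Q) (X X' : IrrCharacter Q) (δ : ℤ)
    (F : Finset (IrrCharacter Q)) (ε : IrrCharacter Q → ℤ) : Prop where
  sgn : δ = 1 ∨ δ = -1
  ne : X ≠ X'
  sumX : (X : Q → ℂ) u + (X : Q → ℂ) (u ^ n) = δ
  sumX' : (X' : Q → ℂ) u + (X' : Q → ℂ) (u ^ n) = δ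
  diffX : (X : Q → ℂ) u ≠ (X : Q → ℂ) (u ^ n)
  diffX' : (X' : Q → ℂ) u ≠ (X' : Q → ℂ) (u ^ n)
  disj : trivIrr Q ≠ X ∧ trivIrr Q ≠ X' ∧ trivIrr Q ∉ F ∧ X ∉ F ∧ X' ∉ F
  card : F.card = idx p - 1
  memF : ∀ f ∈ F, (ε f = 1 ∨ ε f = -1) ∧ (f : Q → ℂ) u = ε f ∧ (f : Q → ℂ) (u ^ n) = ε f
  other : ∀ χ : IrrCharacter Q, χ ≠ trivIrr Q → χ ≠ X → χ ≠ X' → χ ∉ F →
    (χ : Q → ℂ) u = 0 ∧ (χ : Q → ℂ) (u ^ n) = 0
  rel : ∀ g, ¬ p ∣ orderOf g → (X' : Q → ℂ) g = (X : Q → ℂ) g ∧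
    1 + (δ : ℂ) * (X : Q → ℂ) g + ∑ f ∈ F, (ε f : ℂ) * (f : Q → ℂ) g = 0

theorem exists_special (h : Core p n u) [Fintype (IrrCharacter Q)] :
    ∃ (X X' : IrrCharacter Q) (δ : ℤ) (F : Finset (IrrCharacter Q)) (ε : IrrCharacter Q → ℤ),
      Special p n u X X' δ F ε := by
  obtain ⟨w, hw, hww, hw0⟩ := exists_root h
  choose a ha using fun χ : IrrCharacter Q => exists_sumVal h (IsIrrCharacter.isCharacter χ.2)
  choose s hs using fun χ : IrrCharacter Q => exists_diffVal h hw hww (IsIrrCharacter.isCharacter χ.2)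
  obtain ⟨haa, hss, has, hg⟩ := sums h hww hw0 ha hs
  -- parity
  have hpar : ∀ χ, (2 : ℤ) ∣ a χ - s χ := by
    intro χ
    have hint : IsIntegral ℤ ((χ : Q → ℂ) u * (χ : Q → ℂ) (u ^ n)) :=
      (IsCharacter.isIntegral (IsIrrCharacter.isCharacter χ.2) u).mul
        (IsCharacter.isIntegral (IsIrrCharacter.isCharacter χ.2) _)
    have hq : (χ : Q → ℂ) u * (χ : Q → ℂ) (u ^ n) =
        ((((a χ : ℚ) ^ 2 - (disc p : ℚ) * (s χ : ℚ) ^ 2) / 4 : ℚ) : ℂ) := by
      push_cast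
      rw [← hw, ← ha χ]
      linear_combination ((1 : ℂ) / 4) * ((χ : Q → ℂ) (u ^ n) - (χ : Q → ℂ) u - s χ * w) * hs χ
    rw [hq] at hint
    obtain ⟨z, hz⟩ := exists_int_of_isIntegral_ratCast hint
    have h4 : a χ ^ 2 - disc p * s χ ^ 2 = 4 * z := by
      rw [eq_div_iff (by norm_num)] at hz
      have : ((a χ ^ 2 - disc p * s χ ^ 2 : ℤ) : ℚ) = ((4 * z : ℤ) : ℚ) := by
        push_cast; linarith
      exact_mod_cast this
    have h2 : (2 : ℤ) ∣ (a χ - s χ) ^ 2 := by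
      rcases h.cases with ⟨rfl, -⟩ | ⟨rfl, -⟩ <;> simp only [disc] at h4 <;> norm_num at h4
      · exact ⟨2 * z + 3 * s χ ^ 2 - a χ * s χ, by linear_combination h4⟩
      · exact ⟨2 * z - 3 * s χ ^ 2 - a χ * s χ, by linear_combination h4⟩
    exact Int.prime_two.dvd_of_dvd_pow h2
  set z := trivIrr Q with hzdef
  have hz : a z = 2 ∧ s z = 0 := by
    have h1 := ha z
    have h2 := hs z
    simp only [hzdef, trivIrr_apply] at h1 h2
    refine ⟨by exact_mod_cast (h1.symm.trans (by norm_num : (1 : ℂ) + 1 = ((2 : ℤ) : ℂ))), ?_⟩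
    rw [sub_self, eq_comm, mul_eq_zero, Int.cast_eq_zero] at h2
    exact h2.resolve_right hw0
  -- the pair
  set T := univ.filter fun χ => s χ ≠ 0 with hT
  have hsq : ∀ χ ∈ T, s χ * s χ = 1 := by
    intro χ hχ
    have h1 : 1 ≤ s χ * s χ := mul_self_pos.2 (mem_filter.1 hχ).2
    have h2 : s χ * s χ ≤ 2 :=
      (single_le_sum (fun c _ => mul_self_nonneg (s c)) (mem_univ χ)).trans hss.le
    have hl : -2 ≤ s χ := by nlinarith
    have hu' : s χ ≤ 2 := by nlinarith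
    interval_cases (s χ) <;> omega
  have hTc : T.card = 2 := by
    have h1 : ∑ χ ∈ T, s χ * s χ = 2 := by
      rw [sum_subset (subset_univ T) fun c _ hc => ?_]
      · exact hss
      · rw [show s c = 0 by simpa [hT] using hc, zero_mul]
    rw [sum_congr rfl hsq, sum_const, nsmul_one] at h1
    exact_mod_cast h1
  obtain ⟨X, X', hne, hTX⟩ := card_eq_two.1 hTc
  have hXT : X ∈ T := by rw [hTX]; simp
  have hX'T : X' ∈ T := by rw [hTX]; simp
  have hs0 : ∀ χ, χ ≠ X → χ ≠ X' → s χ = 0 := fun χ h1 h2 => by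
    by_contra h0
    have : χ ∈ T := mem_filter.2 ⟨mem_univ _, h0⟩
    rw [hTX] at this
    simp [h1, h2] at this
  have hzX : z ≠ X := fun e => (mem_filter.1 hXT).2 (e ▸ hz.2)
  have hzX' : z ≠ X' := fun e => (mem_filter.1 hX'T).2 (e ▸ hz.2)
  have hpair : ∀ f : IrrCharacter Q → ℤ, (∀ χ, s χ = 0 → f χ = 0) → ∑ χ, f χ = f X + f X' :=
    fun f hf => sum_eq_add_of_mem X X' (mem_univ _) (mem_univ _) hne fun c _ hc =>
      hf c (hs0 c hc.1 hc.2)
  have hpairC : ∀ f : IrrCharacter Q → ℂ, (∀ χ, s χ = 0 → f χ = 0) → ∑ χ, f χ = f X + f X' :=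
    fun f hf => sum_eq_add_of_mem X X' (mem_univ _) (mem_univ _) hne fun c _ hc =>
      hf c (hs0 c hc.1 hc.2)
  have hsX : s X' = - s X := by
    have h1 := (hg 1 (regular_one h)).2
    rw [hpairC _ fun c hc => by rw [hc, Int.cast_zero, mul_zero]] at h1
    have hpos : ∀ c : IrrCharacter Q, ∃ m : ℕ, (c : Q → ℂ) 1 = m ∧ 0 < m := fun c => by
      obtain ⟨m, ρ, hirr, hρ⟩ := c.2
      refine ⟨m, by rw [← hρ, Representation.char_one, Module.finrank_fin_fun], ?_⟩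
      haveI := hirr
      simpa using finrank_pos_of_isIrreducible ρ
    obtain ⟨m, hm, hm0⟩ := hpos X
    obtain ⟨m', hm', hm0'⟩ := hpos X'
    rw [hm, hm'] at h1
    have h1' : (m : ℤ) * s X + m' * s X' = 0 := by exact_mod_cast h1
    have hX1 := hsq X hXT
    have hX2 := hsq X' hX'T
    rcases mul_self_eq_one_iff.1 hX1 with e | e <;> rcases mul_self_eq_one_iff.1 hX2 with e' | e' <;>
      rw [e, e'] at h1' ⊢ <;> omega
  have haX : a X' = a X := by
    rw [hpair (fun χ => a χ * s χ) fun c hc => by rw [hc, mul_zero], hsX] at has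
    have : (a X - a X') * s X = 0 := by linear_combination has
    exact (sub_eq_zero.1 ((mul_eq_zero.1 this).resolve_right (mem_filter.1 hXT).2)).symm
  -- the sums
  set F := univ.filter fun χ => χ ≠ z ∧ χ ≠ X ∧ χ ≠ X' ∧ a χ ≠ 0 with hF
  have hsplit : ∀ {R : Type} [AddCommMonoid R] (f : IrrCharacter Q → R), (∀ χ, a χ = 0 → f χ = 0) →
      ∑ χ, f χ = f z + (f X + (f X' + ∑ χ ∈ F, f χ)) := by
    intro R _ f hf
    rw [← add_sum_erase univ f (mem_univ z), ← add_sum_erase (univ.erase z) f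
      (mem_erase.2 ⟨hzX.symm, mem_univ X⟩), ← add_sum_erase ((univ.erase z).erase X) f
      (mem_erase.2 ⟨hne.symm, mem_erase.2 ⟨hzX'.symm, mem_univ X'⟩⟩)]
    congr 3
    refine (sum_subset (fun c hc => ?_) fun c hc hcn => hf c ?_).symm
    · simp only [hF, mem_filter] at hc
      simp [hc.2.1, hc.2.2.1, hc.2.2.2.1]
    · simp only [mem_erase] at hc
      by_contra h0
      exact hcn (by simp [hF, hc.1, hc.2.1, hc.2.2.1, h0])
  have hev : ∀ χ ∈ F, (2 : ℤ) ∣ a χ ∧ a χ ≠ 0 := fun χ hχ => by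
    obtain ⟨-, h1, h2, h3, h4⟩ := mem_filter.1 hχ
    have := hpar χ
    rw [hs0 χ h2 h3, sub_zero] at this
    exact ⟨this, h4⟩
  have hF4 : ∀ χ ∈ F, 4 ≤ a χ * a χ := fun χ hχ => by
    obtain ⟨⟨c, hc⟩, h0⟩ := hev χ hχ
    have : c ≠ 0 := fun e => h0 (by rw [hc, e, mul_zero])
    have := mul_self_pos.2 this
    rw [hc]; nlinarith
  have hsum : 4 + 2 * (a X * a X) + ∑ χ ∈ F, a χ * a χ = 2 * (p : ℤ) := by
    have h1 := hsplit (fun χ => a χ * a χ) fun c hc => by rw [hc, mul_zero]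
    rw [haa, hz.1, haX] at h1
    linarith
  have hp7 : p ≤ 7 := by rcases h.cases with ⟨rfl, -⟩ | ⟨rfl, -⟩ <;> omega
  have hFnn : 0 ≤ ∑ χ ∈ F, a χ * a χ := sum_nonneg fun c _ => mul_self_nonneg _
  have haX1 : a X = 1 ∨ a X = -1 := by
    have hl : -2 ≤ a X := by nlinarith
    have hu' : a X ≤ 2 := by nlinarith
    have hodd := hpar X
    have hs1 := mul_self_eq_one_iff.1 (hsq X hXT)
    omega
  have haX2 : a X * a X = 1 := by rcases haX1 with e | e <;> rw [e] <;> norm_num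
  rw [haX2] at hsum
  have hF2 : ∀ χ ∈ F, a χ = 2 ∨ a χ = -2 := fun χ hχ => by
    have h1 : a χ * a χ ≤ 8 :=
      (single_le_sum (fun c _ => mul_self_nonneg (a c)) hχ).trans (by linarith [(Nat.cast_le (α := ℤ)).2 hp7])
    have hl : -2 ≤ a χ := by nlinarith
    have hu' : a χ ≤ 2 := by nlinarith
    obtain ⟨⟨c, hc⟩, h0⟩ := hev χ hχ
    omega
  have hFc : F.card = idx p - 1 := by
    rw [sum_congr rfl (g := fun _ => (4 : ℤ)) fun c hc => by rcases hF2 c hc with e | e <;> rw [e] <;> norm_num,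
      sum_const, nsmul_eq_mul] at hsum
    rcases h.cases with ⟨rfl, -⟩ | ⟨rfl, -⟩ <;> simp only [idx] <;> omega
  have hvals : ∀ χ, s χ = 0 → ∀ b : ℤ, a χ = 2 * b →
      (χ : Q → ℂ) u = b ∧ (χ : Q → ℂ) (u ^ n) = b := fun χ hχ b hb => by
    have h1 := ha χ
    have h2 := hs χ
    rw [hb] at h1
    rw [hχ] at h2
    push_cast at h1 h2
    constructor
    · linear_combination ((1 : ℂ) / 2) * h1 + ((1 : ℂ) / 2) * h2
    · linear_combination ((1 : ℂ) / 2) * h1 - ((1 : ℂ) / 2) * h2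
  refine ⟨X, X', a X, F, fun χ => a χ / 2, haX1, hne, ha X, by rw [ha X', haX], fun e => ?_, fun e => ?_,
    ⟨hzX, hzX', fun h => (mem_filter.1 h).2.1 rfl, fun h => (mem_filter.1 h).2.2.1 rfl,
      fun h => (mem_filter.1 h).2.2.2.1 rfl⟩, hFc, fun f hf => ?_, fun χ h1 h2 h3 h4 => ?_,
    fun g hgr => ?_⟩
  · have := hs X
    rw [e, sub_self, eq_comm, mul_eq_zero, Int.cast_eq_zero] at this
    exact this.elim (mem_filter.1 hXT).2 hw0
  · have := hs X'
    rw [e, sub_self, eq_comm, mul_eq_zero, Int.cast_eq_zero] at this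
    exact this.elim (mem_filter.1 hX'T).2 hw0
  · obtain ⟨-, -, h2, h3, -⟩ := mem_filter.1 hf
    refine ⟨?_, hvals f (hs0 f h2 h3) _ ?_⟩ <;> rcases hF2 f hf with e | e <;> rw [e] <;> norm_num
  · have h0 : a χ = 2 * 0 := by
      by_contra h0
      exact h4 (mem_filter.2 ⟨mem_univ _, h1, h2, h3, by simpa using h0⟩)
    simpa using hvals χ (hs0 χ h2 h3) 0 h0
  · obtain ⟨hga, hgs⟩ := hg g hgr
    rw [hpairC _ fun c hc => by rw [hc, Int.cast_zero, mul_zero], hsX] at hgs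
    have hXX : (X' : Q → ℂ) g = (X : Q → ℂ) g := by
      have h1 : (s X : ℂ) * ((X : Q → ℂ) g - (X' : Q → ℂ) g) = 0 := by
        push_cast at hgs; linear_combination hgs
      exact (sub_eq_zero.1 ((mul_eq_zero.1 h1).resolve_left
        (Int.cast_ne_zero.2 (mem_filter.1 hXT).2))).symm
    refine ⟨hXX, ?_⟩
    rw [hsplit _ fun c hc => by rw [hc, Int.cast_zero, mul_zero]] at hga
    rw [show (z : Q → ℂ) g = 1 from trivIrr_apply g, hz.1, haX, hXX] at hga
    have h2 : ∑ f ∈ F, (f : Q → ℂ) g * (a f : ℂ) = 2 * ∑ f ∈ F, ((a f / 2 : ℤ) : ℂ) * (f : Q → ℂ) g := by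
      rw [mul_sum]
      refine sum_congr rfl fun f hf => ?_
      rcases hF2 f hf with e | e <;> rw [e] <;> norm_num <;> ring
    rw [h2] at hga
    push_cast at hga ⊢
    linear_combination ((1 : ℂ) / 2) * hga

variable [Fintype (IrrCharacter Q)] {X X' : IrrCharacter Q} {δ : ℤ} {F : Finset (IrrCharacter Q)}
  {ε : IrrCharacter Q → ℤ}

theorem Special.split (hS : Special p n u X X' δ F ε) (f : IrrCharacter Q → ℂ)
    (hf : ∀ χ : IrrCharacter Q, (χ : Q → ℂ) u = 0 → (χ : Q → ℂ) (u ^ n) = 0 → f χ = 0) :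
    ∑ χ, f χ = f (trivIrr Q) + (f X + (f X' + ∑ χ ∈ F, f χ)) := by
  obtain ⟨h1, h2, h3, h4, h5⟩ := hS.disj
  rw [← sum_subset (subset_univ ({trivIrr Q, X, X'} ∪ F)) fun c _ hc => by
      simp only [mem_union, mem_insert, mem_singleton, not_or] at hc
      obtain ⟨e1, e2⟩ := hS.other c hc.1.1 hc.1.2.1 hc.1.2.2 hc.2
      exact hf c e1 e2,
    sum_union (by simp [disjoint_left, h3, h4, h5]), sum_insert (by simp [h1, h2]),
    sum_pair hS.ne]
  ring

/-- Natural degree. -/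
theorem exists_degree (χ : IrrCharacter Q) : ∃ m : ℕ, (χ : Q → ℂ) 1 = m ∧ 0 < m := by
  obtain ⟨m, ρ, hirr, hρ⟩ := χ.2
  refine ⟨m, by rw [← hρ, Representation.char_one, Module.finrank_fin_fun], ?_⟩
  haveI := hirr
  simpa using finrank_pos_of_isIrreducible ρ

/-- The degree modulo `p`. -/
theorem dvd_degree (h : Core p n u) {χ : Q → ℂ} (hχ : IsCharacter Q χ) {m : ℕ} (h1 : χ 1 = m)
    {a : ℤ} (ha : χ u + χ (u ^ n) = a) : (p : ℤ) ∣ m + idx p * a := by
  obtain ⟨d, ρ, hρ⟩ := hχ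
  obtain ⟨ι, hι, b, μ, -, hμ, -, hchar⟩ := exists_eigenbasis ρ u
  rw [h.ord] at hμ
  have hsum : ∑ k ∈ range p, χ (u ^ k) = (p : ℂ) * (univ.filter fun i => μ i = 1).card := by
    rw [← hρ, sum_congr rfl fun k _ => hchar k, sum_comm,
      sum_congr rfl fun i _ => Nineteen.geom_sum_root (hμ i), ← sum_filter, sum_const, nsmul_eq_mul,
      mul_comm]
  rw [sum_powers h ⟨d, ρ, hρ⟩, ha, h1] at hsum
  exact ⟨((univ.filter fun i => μ i = 1).card : ℤ), by exact_mod_cast hsum⟩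

theorem dvd_memF (h : Core p n u) (hS : Special p n u X X' δ F ε) {f : IrrCharacter Q} (hf : f ∈ F)
    {m : ℕ} (h1 : (f : Q → ℂ) 1 = m) : (p : ℤ) ∣ m - ε f := by
  obtain ⟨-, e1, e2⟩ := hS.memF f hf
  have := dvd_degree h (IsIrrCharacter.isCharacter f.2) h1 (a := 2 * ε f) (by rw [e1, e2]; push_cast; ring)
  have hp : (p : ℤ) ∣ (p : ℤ) * ε f := dvd_mul_right _ _
  rcases h.cases with ⟨rfl, -⟩ | ⟨rfl, -⟩ <;> simp only [idx] at this <;> norm_num at this hp ⊢ <;> omega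

theorem dvd_X (h : Core p n u) (hS : Special p n u X X' δ F ε)
    {m : ℕ} (h1 : (X : Q → ℂ) 1 = m) : (p : ℤ) ∣ 2 * m - δ := by
  have := dvd_degree h (IsIrrCharacter.isCharacter X.2) h1 hS.sumX
  rcases h.cases with ⟨rfl, -⟩ | ⟨rfl, -⟩ <;> simp only [idx] at this <;> norm_num at this ⊢ <;> omega

/-- A member of degree one would be principal. -/
theorem degree_ne_one (h : Core p n u) (hS : Special p n u X X' δ F ε) {f : IrrCharacter Q} (hf : f ∈ F) :
    (f : Q → ℂ) 1 ≠ 1 := fun h1 => by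
  have hε : ε f = 1 := by
    have := dvd_memF h hS hf (m := 1) (by rw [h1, Nat.cast_one])
    rcases (hS.memF f hf).1 with e | e
    · exact e
    · exfalso
      rw [e] at this
      rcases h.cases with ⟨rfl, -⟩ | ⟨rfl, -⟩ <;> norm_num at this
  obtain ⟨μ, hμ⟩ := exists_hom_of_degree_one f.2 h1
  have hμ' : ∀ g, (f : Q → ℂ) g = (μ g : ℂ) := fun g => congrFun hμ g
  have hu : μ u = 1 := Units.ext (by
    rw [← hμ', (hS.memF f hf).2.1, hε, Int.cast_one, Units.val_one])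
  have htop := h.gen μ.ker inferInstance hu
  apply hS.disj.2.2.1
  convert hf using 1
  refine Subtype.ext (funext fun g => ?_)
  rw [trivIrr_apply, hμ', MonoidHom.mem_ker.1 (htop ▸ Subgroup.mem_top g : g ∈ μ.ker), Units.val_one]

/-- The class counts. -/
theorem pairs_special (hS : Special p n u X X' δ F ε) {g k : Q} (hg : ¬ p ∣ orderOf g)
    (hk : ¬ p ∣ orderOf k) :
    ((pairs g k u + pairs g k (u ^ n) : ℕ) : ℂ) * (Nat.card (Subgroup.centralizer ({g} : Set Q)) *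
        Nat.card (Subgroup.centralizer ({k} : Set Q))) =
      2 * (Nat.card Q : ℂ) * (1 + (δ : ℂ) * (X : Q → ℂ) g * conj ((X : Q → ℂ) k) / (X : Q → ℂ) 1 +
        ∑ f ∈ F, (ε f : ℂ) * (f : Q → ℂ) g * conj ((f : Q → ℂ) k) / (f : Q → ℂ) 1) := by
  rw [Nat.cast_add, add_mul, pairs_eq, pairs_eq, ← mul_add, ← sum_add_distrib,
    hS.split _ fun χ h1 h2 => by rw [h1, h2]; simp, trivIrr_apply, trivIrr_apply, trivIrr_apply,
    trivIrr_apply, trivIrr_apply, map_one, (hS.rel g hg).1, (hS.rel k hk).1]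
  have h1 : (X' : Q → ℂ) 1 = (X : Q → ℂ) 1 := (hS.rel 1 (fun h1 => hg (h1.trans (by
    rw [orderOf_one]; exact one_dvd _)))).1
  rw [h1]
  have hF : ∀ f ∈ F, (f : Q → ℂ) g * conj ((f : Q → ℂ) k) * (f : Q → ℂ) u / (f : Q → ℂ) 1 +
      (f : Q → ℂ) g * conj ((f : Q → ℂ) k) * (f : Q → ℂ) (u ^ n) / (f : Q → ℂ) 1 =
        2 * ((ε f : ℂ) * (f : Q → ℂ) g * conj ((f : Q → ℂ) k) / (f : Q → ℂ) 1) := fun f hf => by
    rw [(hS.memF f hf).2.1, (hS.memF f hf).2.2]; ring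
  rw [sum_congr rfl hF, ← mul_sum]
  linear_combination ((Nat.card Q : ℂ) * (X : Q → ℂ) g * conj ((X : Q → ℂ) k) / (X : Q → ℂ) 1) *
    (hS.sumX + hS.sumX')

/-- The elements of order `p` are conjugate to `u` or to `u ^ n`. -/
theorem isConj_cases (h : Core p n u) {k : ℕ} (hk : ¬ p ∣ k) :
    (IsConj u (u ^ k) ∧ IsConj (u ^ n) (u ^ (n * k))) ∨
      (IsConj u (u ^ (n * k)) ∧ IsConj (u ^ n) (u ^ k)) := by
  have hc := h.sqr
  have hr : ∀ a b : ℕ, a % p = b % p → u ^ a = u ^ b := fun a b hab => by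
    rw [pow_eq_pow_iff_modEq, h.ord]; exact hab
  have h4 : ∀ j : ℕ, IsConj (u ^ j) (u ^ (4 * j)) := fun j => by
    have := isConj_pow hc j
    rwa [← pow_mul] at this
  have h16 : ∀ j : ℕ, IsConj (u ^ j) (u ^ (16 * j)) := fun j => by
    have := (h4 j).trans (h4 (4 * j))
    rwa [← mul_assoc] at this
  have hmul : ∀ a b : ℕ, (a % p = b % p) → ∀ c, (c * a) % p = (c * b) % p :=
    fun a b hab c => Nat.ModEq.mul_left c hab
  rcases h.cases with ⟨rfl, rfl⟩ | ⟨rfl, rfl⟩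
  · have h' : k % 5 = 1 ∨ k % 5 = 4 ∨ k % 5 = 2 ∨ k % 5 = 3 := by omega
    rcases h' with e | e | e | e
    · left; rw [hr k 1 (by omega), hr (2 * k) 2 (by omega), pow_one]; exact ⟨IsConj.refl _, IsConj.refl _⟩
    · left; rw [hr k (4 * 1) (by omega), hr (2 * k) (4 * 2) (by omega)]
      exact ⟨by simpa using h4 1, h4 2⟩
    · right; rw [hr (2 * k) (4 * 1) (by omega), hr k 2 (by omega)]
      exact ⟨by simpa using h4 1, IsConj.refl _⟩
    · right; rw [hr (2 * k) 1 (by omega), hr k (4 * 2) (by omega), pow_one]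
      exact ⟨IsConj.refl _, h4 2⟩
  · have h' : k % 7 = 1 ∨ k % 7 = 4 ∨ k % 7 = 2 ∨ k % 7 = 3 ∨ k % 7 = 5 ∨ k % 7 = 6 := by omega
    rcases h' with e | e | e | e | e | e
    · left; rw [hr k 1 (by omega), hr (3 * k) 3 (by omega), pow_one]; exact ⟨IsConj.refl _, IsConj.refl _⟩
    · left; rw [hr k (4 * 1) (by omega), hr (3 * k) (4 * 3) (by omega)]
      exact ⟨by simpa using h4 1, h4 3⟩
    · left; rw [hr k (16 * 1) (by omega), hr (3 * k) (16 * 3) (by omega)]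
      exact ⟨by simpa using h16 1, h16 3⟩
    · right; rw [hr (3 * k) (16 * 1) (by omega), hr k 3 (by omega)]
      exact ⟨by simpa using h16 1, IsConj.refl _⟩
    · right; rw [hr (3 * k) 1 (by omega), hr k (4 * 3) (by omega), pow_one]
      exact ⟨IsConj.refl _, h4 3⟩
    · right; rw [hr (3 * k) (4 * 1) (by omega), hr k (16 * 3) (by omega)]
      exact ⟨by simpa using h4 1, h16 3⟩

/-- A member determined by its degree and sign is invariant under coprime powers. -/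
theorem apply_pow_memF (h : Core p n u) (hS : Special p n u X X' δ F ε) {f : IrrCharacter Q} (hf : f ∈ F)
    (huniq : ∀ f' ∈ F, (f' : Q → ℂ) 1 = (f : Q → ℂ) 1 → ε f' = ε f → f' = f) {g : Q} {t : ℕ}
    (ht : t.Coprime (orderOf g)) : (f : Q → ℂ) (g ^ t) = (f : Q → ℂ) g := by
  obtain ⟨k, hk, hkt⟩ := exists_coprime_pow g ht
  let f' : IrrCharacter Q := ⟨powTwist k f, isIrrCharacter_powTwist hk f.2⟩
  have happ : ∀ x, (f' : Q → ℂ) x = (f : Q → ℂ) (x ^ k) := fun x => rfl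
  obtain ⟨-, e1, e2⟩ := hS.memF f hf
  have hpk : ¬ p ∣ k := fun hd => by
    have h1 : p ∣ Nat.gcd k (Nat.card Q) := Nat.dvd_gcd hd (h.ord ▸ orderOf_dvd_natCard u)
    rw [hk] at h1
    exact (prime h).not_dvd_one h1
  have hf'1 : (f' : Q → ℂ) 1 = (f : Q → ℂ) 1 := by rw [happ, one_pow]
  have hv : (f' : Q → ℂ) u = ε f ∧ (f' : Q → ℂ) (u ^ n) = ε f := by
    rw [happ, happ, ← pow_mul]
    have hc := IsIrrCharacter.isCharacter f.2
    rcases isConj_cases h hpk with ⟨c1, c2⟩ | ⟨c1, c2⟩ <;>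
      rw [← apply_of_isConj hc c1, ← apply_of_isConj hc c2] <;> exact ⟨‹_›, ‹_›⟩
  have hne : (ε f : ℂ) ≠ 0 := Int.cast_ne_zero.2 (by rcases (hS.memF f hf).1 with e | e <;> omega)
  have hf'F : f' ∈ F := by
    by_contra hno
    by_cases hz : f' = trivIrr Q
    · apply degree_ne_one h hS hf
      rw [← hf'1, hz, trivIrr_apply]
    by_cases hX : f' = X
    · exact hS.diffX (by rw [← hX, hv.1, hv.2])
    by_cases hX' : f' = X'
    · exact hS.diffX' (by rw [← hX', hv.1, hv.2])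
    exact hne (hv.1 ▸ (hS.other f' hz hX hX' hno).1)
  have hεeq : ε f' = ε f := by
    have := (hS.memF f' hf'F).2.1
    rw [hv.1] at this
    exact_mod_cast this.symm
  have := huniq f' hf'F hf'1 hεeq
  rw [← hkt, ← happ, this]

/-- A member determined by its degree and sign has integer values. -/
theorem exists_int_memF (h : Core p n u) (hS : Special p n u X X' δ F ε) {f : IrrCharacter Q} (hf : f ∈ F)
    (huniq : ∀ f' ∈ F, (f' : Q → ℂ) 1 = (f : Q → ℂ) 1 → ε f' = ε f → f' = f) (g : Q) :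
    ∃ z : ℤ, (f : Q → ℂ) g = z :=
  CfsgLib.Coherence.exists_int_of_forall_pow_eq
    (CfsgLib.Brauer.isGeneralizedCharacter_of_isCharacter (IsIrrCharacter.isCharacter f.2)) g
    fun _ ht => apply_pow_memF h hS hf huniq ht

/-- Multiplicities of the constituents at the two classes. -/
theorem exists_mult_special (hS : Special p n u X X' δ F ε) {A : Q → ℂ} (hA : IsCharacter Q A) :
    ∃ m : IrrCharacter Q → ℕ, A = ∑ χ, (m χ : ℂ) • (χ : Q → ℂ) ∧
      A u + A (u ^ n) = 2 * (m (trivIrr Q) : ℂ) + (δ : ℂ) * ((m X + m X' : ℕ) : ℂ) +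
        2 * ∑ f ∈ F, (ε f : ℂ) * (m f : ℂ) := by
  obtain ⟨m, hm⟩ := IsCharacter.exists_sum hA
  refine ⟨m, hm, ?_⟩
  simp only [congrFun hm, Finset.sum_apply, Pi.smul_apply, smul_eq_mul, ← sum_add_distrib, ← mul_add]
  rw [hS.split _ fun χ h1 h2 => by rw [h1, h2]; simp, trivIrr_apply, trivIrr_apply, hS.sumX, hS.sumX',
    mul_sum, sum_congr rfl fun f hf => show (m f : ℂ) * ((f : Q → ℂ) u + (f : Q → ℂ) (u ^ n)) =
      2 * ((ε f : ℂ) * (m f : ℂ)) by rw [(hS.memF f hf).2.1, (hS.memF f hf).2.2]; ring]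
  push_cast
  ring

/-- A constituent. -/
theorem exists_sub_isCharacter {A : Q → ℂ} {m : IrrCharacter Q → ℕ}
    (hm : A = ∑ χ, (m χ : ℂ) • (χ : Q → ℂ)) {c : IrrCharacter Q} (hc : m c ≠ 0) :
    IsCharacter Q (A - (c : Q → ℂ)) ∧ ∃ r : ℕ, A 1 = (c : Q → ℂ) 1 + (r : ℂ) ∧ (r = 0 → A = (c : Q → ℂ)) := by
  have hch : IsCharacter Q (A - (c : Q → ℂ)) := by
    rw [isCharacter_iff_exists_sum]
    refine ⟨fun χ => if χ = c then m χ - 1 else m χ, ?_⟩
    rw [hm, eq_comm, eq_sub_iff_add_eq]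
    conv_rhs => rw [← add_sum_erase _ _ (mem_univ c)]
    rw [← add_sum_erase _ _ (mem_univ c)]
    simp only []
    rw [if_pos trivial, sum_congr rfl fun χ hχ => by rw [if_neg (ne_of_mem_erase hχ)],
      Nat.cast_sub (Nat.one_le_iff_ne_zero.2 hc), Nat.cast_one, sub_smul, one_smul]
    abel
  refine ⟨hch, ?_⟩
  obtain ⟨r, ρ, hρ⟩ := hch
  have hr : (A - (c : Q → ℂ)) 1 = r := by rw [← hρ, Representation.char_one, Module.finrank_fin_fun]
  refine ⟨r, ?_, fun h0 => funext fun g => ?_⟩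
  · rw [Pi.sub_apply] at hr; rw [← hr]; ring
  · subst h0
    have h1 := congrFun hρ g
    rw [Pi.sub_apply, Representation.character, Subsingleton.elim (ρ g) 0, map_zero, eq_comm, sub_eq_zero] at h1
    exact h1

end CfsgLib.OrderDegrees.SmallChar
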